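import Groth.Agent.Fano.K714.DimMv
import Mathlib.Algebra.MvPolynomial.Funext
import Mathlib.RingTheory.AlgebraicIndependent.Basic

/-!
# A skew `5×5` matrix of linear forms on `k^5` has rank at most two at some nonzero vector
-/

set_option autoImplicit false

universe u

namespace K332.PfNe

open MvPolynomial

variable {k : Type u} [Field k]

/-- the pairs `a < b < 5` -/
def idx : Fin 10 → Fin 6 × Fin 6 :=
  ![(0, 1), (0, 2), (0, 3), (0, 4), (1, 2), (1, 3), (1, 4), (2, 3), (2, 4), (3, 4)]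

/-- their numbers -/
def num : Fin 6 → Fin 6 → Fin 10 :=
  ![![0, 0, 1, 2, 3, 0], ![0, 0, 4, 5, 6, 0], ![0, 0, 0, 7, 8, 0], ![0, 0, 0, 0, 9, 0], 0, 0]

theorem idx_num : ∀ a b : Fin 6, a < b → b < 5 → idx (num a b) = (a, b) := by decide

variable (M : Fin 6 → Fin 6 → Fin 5 → k)

/-- the value of the entry -/
def val (x : Fin 5 → k) (a b : Fin 6) : k := ∑ l, M a b l * x l

/-- the points `(u ∧ w - A(x), x)` -/
def pt (x : Fin 5 → k) (u w : Fin 6 → k) : Fin 10 ⊕ Fin 5 → k :=
  Sum.elim (fun s => u (idx s).1 * w (idx s).2 - u (idx s).2 * w (idx s).1 - val M x (idx s).1 (idx s).2) x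

/-- the same as polynomials -/
noncomputable def ph : Fin 10 ⊕ Fin 5 → MvPolynomial (Fin 5 ⊕ (Fin 6 ⊕ Fin 6)) k :=
  Sum.elim (fun s => X (Sum.inr (Sum.inl (idx s).1)) * X (Sum.inr (Sum.inr (idx s).2)) -
    X (Sum.inr (Sum.inl (idx s).2)) * X (Sum.inr (Sum.inr (idx s).1)) -
    ∑ l, C (M (idx s).1 (idx s).2 l) * X (Sum.inl l)) (fun l => X (Sum.inl l))

theorem eval_ph (x : Fin 5 → k) (u w : Fin 6 → k) (s : Fin 10 ⊕ Fin 5) :
    eval (Sum.elim x (Sum.elim u w)) (ph M s) = pt M x u w s := by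
  rcases s with s | s
  · simp [ph, pt, val]
  · simp [ph, pt]

/-- the prime ideal of the closure of these points -/
noncomputable def PI : Ideal (MvPolynomial (Fin 10 ⊕ Fin 5) k) :=
  RingHom.ker (aeval (ph M) : MvPolynomial (Fin 10 ⊕ Fin 5) k →ₐ[k] _).toRingHom

instance : (PI M).IsPrime := RingHom.ker_isPrime _

theorem mem_PI [Infinite k] (p : MvPolynomial (Fin 10 ⊕ Fin 5) k) :
    p ∈ PI M ↔ ∀ x u w, eval (pt M x u w) p = 0 := by
  have key : ∀ x u w, eval (Sum.elim x (Sum.elim u w)) (aeval (ph M) p) = eval (pt M x u w) p := by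
    intro x u w
    have h6 : (aeval (Sum.elim x (Sum.elim u w)) : MvPolynomial (Fin 5 ⊕ (Fin 6 ⊕ Fin 6)) k →ₐ[k] k).comp
        (aeval (ph M)) = aeval (fun i => aeval (Sum.elim x (Sum.elim u w)) (ph M i)) := comp_aeval _ _
    have h7 := AlgHom.congr_fun h6 p
    simp only [AlgHom.comp_apply, aeval_eq_eval, eval_ph] at h7
    exact h7
  constructor
  · intro h x u w
    have h1 : aeval (ph M) p = 0 := h
    rw [← key, h1, map_zero]
  · intro h
    change aeval (ph M) p = 0
    refine MvPolynomial.funext fun z => ?_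
    have hz : z = Sum.elim (fun l => z (Sum.inl l)) (Sum.elim (fun l => z (Sum.inr (Sum.inl l)))
        (fun l => z (Sum.inr (Sum.inr l)))) := by
      funext s
      rcases s with s | s | s <;> rfl
    rw [hz, key, h, map_zero]

/-- the twelve free coordinates -/
def emb : Fin 7 ⊕ Fin 5 → Fin 10 ⊕ Fin 5 := Sum.map (Fin.castLE (by norm_num)) id

theorem exists_pt (q : Fin 7 ⊕ Fin 5 → k) (hq : q (Sum.inl 0) + val M (fun l => q (Sum.inr l)) 0 1 ≠ 0) :
    ∃ x u w, ∀ s, pt M x u w (emb s) = q s := by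
  refine ⟨fun l => q (Sum.inr l),
    ![1, 0, -(q (Sum.inl 4) + val M (fun l => q (Sum.inr l)) 1 2) / (q (Sum.inl 0) + val M (fun l => q (Sum.inr l)) 0 1),
      -(q (Sum.inl 5) + val M (fun l => q (Sum.inr l)) 1 3) / (q (Sum.inl 0) + val M (fun l => q (Sum.inr l)) 0 1),
      -(q (Sum.inl 6) + val M (fun l => q (Sum.inr l)) 1 4) / (q (Sum.inl 0) + val M (fun l => q (Sum.inr l)) 0 1), 0],
    ![0, q (Sum.inl 0) + val M (fun l => q (Sum.inr l)) 0 1, q (Sum.inl 1) + val M (fun l => q (Sum.inr l)) 0 2,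
      q (Sum.inl 2) + val M (fun l => q (Sum.inr l)) 0 3, q (Sum.inl 3) + val M (fun l => q (Sum.inr l)) 0 4, 0], ?_⟩
  rintro (s | s)
  · fin_cases s
    · simp [pt, emb, idx]
    · simp [pt, emb, idx]
    · simp [pt, emb, idx]
    · simp [pt, emb, idx]
    · simp [pt, emb, idx]
      field_simp
      ring
    · simp [pt, emb, idx]
      field_simp
      ring
    · simp [pt, emb, idx]
      field_simp
      ring
  · rfl

theorem algInd [Infinite k] :
    AlgebraicIndependent k (fun s : Fin 7 ⊕ Fin 5 => Ideal.Quotient.mk (PI M) (X (emb s))) := by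
  rw [algebraicIndependent_iff]
  intro F hF
  have h1 : (aeval (fun s : Fin 7 ⊕ Fin 5 => Ideal.Quotient.mk (PI M) (X (emb s)))) F =
      Ideal.Quotient.mk (PI M) (rename emb F) := by
    have h2 : (aeval (fun s : Fin 7 ⊕ Fin 5 => Ideal.Quotient.mk (PI M) (X (emb s))) :
        MvPolynomial (Fin 7 ⊕ Fin 5) k →ₐ[k] _) = (Ideal.Quotient.mkₐ k (PI M)).comp (rename emb) := by
      ext j
      simp
    rw [h2]
    rfl
  rw [h1, Ideal.Quotient.eq_zero_iff_mem, mem_PI] at hF
  let g : MvPolynomial (Fin 7 ⊕ Fin 5) k := X (Sum.inl 0) + ∑ l, C (M 0 1 l) * X (Sum.inr l)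
  have hg : g ≠ 0 := by
    intro h
    have h2 := congrArg (eval (Sum.elim (fun _ => 1) (fun _ => 0) : Fin 7 ⊕ Fin 5 → k)) h
    simp [g] at h2
  have hFg : F * g = 0 := by
    refine MvPolynomial.funext fun q => ?_
    rw [map_mul, map_zero]
    by_cases hq : q (Sum.inl 0) + val M (fun l => q (Sum.inr l)) 0 1 = 0
    · have : eval q g = 0 := by
        simpa [g, val] using hq
      rw [this, mul_zero]
    · obtain ⟨x, u, w, hx⟩ := exists_pt M q hq
      have h3 := hF x u w
      rw [eval_rename] at h3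
      have h4 : pt M x u w ∘ emb = q := funext hx
      rw [h4] at h3
      rw [h3, zero_mul]
  exact (mul_eq_zero.1 hFg).resolve_right hg

theorem height_PI [Infinite k] : (PI M).height ≤ 3 := by
  obtain ⟨d, h, -, htr, hh, hsum⟩ := K714.DimMv.exists_nat_dim (PI M)
  have h1 := (algInd M).lift_cardinalMk_le_trdeg
  rw [htr] at h1
  have h2 : 7 + 5 ≤ d := by
    have : ((7 + 5 : ℕ) : Cardinal.{0}) ≤ (d : Cardinal.{0}) := by simpa using h1
    exact_mod_cast this
  have h3 : Nat.card (Fin 10 ⊕ Fin 5) = 15 := by simp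
  rw [hh]
  have : h ≤ 3 := by omega
  exact_mod_cast this

/-- The Pfaffians vanish at some nonzero vector. -/
theorem exists_zero [IsAlgClosed k] : ∃ x : Fin 5 → k, x ≠ 0 ∧ ∀ a b c d : Fin 6, a < b → b < c → c < d → d < 5 →
    val M x a b * val M x c d - val M x a c * val M x b d + val M x a d * val M x b c = 0 := by
  have : Infinite k := IsAlgClosed.instInfinite
  have h0 : (Sum.elim (0 : Fin 10 → k) (0 : Fin 5 → k)) ∈ zeroLocus k (PI M) := by
    intro p hp
    rw [aeval_eq_eval]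
    have h1 := (mem_PI M p).1 hp 0 0 0
    have h2 : pt M 0 0 0 = Sum.elim (0 : Fin 10 → k) (0 : Fin 5 → k) := by
      funext s
      rcases s with s | s
      · simp [pt, val]
      · simp [pt]
    rwa [h2] at h1
  have h1 := (K714.DimMv.height_slice_le (PI M) 0 0 h0).trans (height_PI M)
  obtain ⟨x, hx, hx0⟩ : ∃ x : Fin 5 → k, Sum.elim (0 : Fin 10 → k) x ∈ zeroLocus k (PI M) ∧ x ≠ 0 := by
    by_contra hcon
    push Not at hcon
    have h2 : {w' : Fin 5 → k | Sum.elim (0 : Fin 10 → k) w' ∈ zeroLocus k (PI M)} ⊆ {0} := fun w hw => hcon w hw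
    have h3 : (vanishingIdeal k ({0} : Set (Fin 5 → k))).height ≤ 3 :=
      (Ideal.height_mono (vanishingIdeal_anti_mono h2)).trans h1
    rw [Groth.Agent.CalgC.DimFT.height_mvPolynomial_isMaximal] at h3
    norm_num at h3
  refine ⟨x, hx0, fun a b c d hab hbc hcd hd => ?_⟩
  let E : Fin 6 → Fin 6 → MvPolynomial (Fin 10 ⊕ Fin 5) k := fun a b =>
    X (Sum.inl (num a b)) + ∑ l, C (M a b l) * X (Sum.inr l)
  have hE : ∀ a b : Fin 6, a < b → b < 5 → ∀ x u w, eval (pt M x u w) (E a b) = u a * w b - u b * w a := by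
    intro a b h h' x u w
    simp [E, pt, idx_num a b h h', val]
  have hE' : ∀ a b : Fin 6, eval (Sum.elim (0 : Fin 10 → k) x) (E a b) = val M x a b := by
    intro a b
    simp [E, val]
  have h2 : E a b * E c d - E a c * E b d + E a d * E b c ∈ PI M := by
    rw [mem_PI]
    intro x u w
    simp only [map_add, map_sub, map_mul]
    rw [hE a b hab (hbc.trans (hcd.trans hd)), hE c d hcd hd, hE a c (hab.trans hbc) (hcd.trans hd),
      hE b d (hbc.trans hcd) hd, hE a d (hab.trans (hbc.trans hcd)) hd, hE b c hbc (hcd.trans hd)]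
    ring
  have h3 := hx _ h2
  rw [aeval_eq_eval] at h3
  simpa only [map_add, map_sub, map_mul, hE'] using h3

end K332.PfNe
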