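import Groth.Agent.Fano.K332.PfDet
import Groth.Agent.Fano.K332.PfNe
import Groth.Agent.Fano.K276.QuartFam

/-!
# The Jacobian criterion for Pfaffian curves

`good_of_jacE`: if the gradients of the five Pfaffians span a space of dimension at least three at all points of the
Pfaffian curve, then it is smooth of dimension one.
-/

set_option autoImplicit false
universe u

open CategoryTheory AlgebraicGeometry Limits TopologicalSpace Opposite MvPolynomial

namespace K332.PfGood

open Groth.Agent.Lefpen.H872.RelCI Groth.Agent.Lefpen.H872.RelBase Groth.Agent.Sga5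
open Groth.Agent.Fano.K276 Groth.Agent.Fano.K276.QuartUniv Groth.Agent.Fano.K276.SmLocus
open Groth.Agent.Fano.K714 Groth.Agent.Fano.K714.Rat Groth.Agent.Fano.K714.Quart Groth.Agent.Fano.K715.Quint
open K255.Pf K332.PfDet

variable {k : Type u} [Field k]

/-- Specialisation of a point with values in a larger field. -/
theorem exists_spec [IsAlgClosed k] {Ω : Type u} [Field Ω] [Algebra k Ω] {σ : Type} [Finite σ] (x : σ → Ω)
    (g : MvPolynomial σ k) (hg : aeval x g ≠ 0) :
    ∃ y : σ → k, eval y g ≠ 0 ∧ ∀ p : MvPolynomial σ k, aeval x p = 0 → eval y p = 0 := by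
  let Q : Ideal (MvPolynomial σ k) := RingHom.ker (aeval x : MvPolynomial σ k →ₐ[k] Ω).toRingHom
  have hQ : Q.IsPrime := RingHom.ker_isPrime _
  have h := IsPrime.vanishingIdeal_zeroLocus (K := k) Q
  by_contra hcon
  push Not at hcon
  apply hg
  have h1 : g ∈ Q := by
    rw [← h, mem_vanishingIdeal_iff]
    intro y hy
    rw [aeval_eq_eval]
    by_contra hne
    obtain ⟨p, hp, hpy⟩ := hcon y hne
    apply hpy
    have := hy p (by simpa [Q, RingHom.mem_ker] using hp)
    rwa [aeval_eq_eval] at this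
  simpa [Q, RingHom.mem_ker] using h1

/-- The rank condition over all fields. -/
theorem rank_of_jacE [IsAlgClosed k] (M : DataE k)
    (h : ∀ x : Fin 5 → k, x ≠ 0 → (∀ j, eval x (qE M j).1 = 0) →
      3 ≤ Module.finrank k ↥(Submodule.span k (Set.range fun j : Fin 5 => fun i : Fin 5 =>
        eval x (pderiv i (qE M j).1))))
    (K : Type u) [Field K] [Algebra k K] (x : Fin (4 + 1) → K) (i : Fin (4 + 1)) (hi : x i = 1)
    (hG : ∀ j, aeval x (pfR (mE M) j).1 = 0) :
    ∃ e' : Fin 3 → Fin 5, LinearIndependent K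
      (fun n : Fin 3 => fun l : Fin 4 => aeval x (pderiv (i.succAbove l) (pfR (mE M) (e' n)).1)) := by
  by_contra hcon
  have hmin : ∀ (e' : Fin 3 → Fin 5) (σ : Fin 3 → Fin (4 + 1)),
      aeval x (((jmat (fun n => pfR (mE M) (e' n))).submatrix id σ).det) = 0 := by
    intro e' σ
    by_contra hne
    exact hcon ⟨e', linearIndependent_chart (G := fun n => pfR (mE M) (e' n))
      (aeval x : MvPolynomial (Fin (4 + 1)) k →ₐ[k] K).toRingHom i (by simp [hi]) (fun j => hG _) σ hne⟩
  obtain ⟨y, hy, hyz⟩ := exists_spec (k := k) (σ := Fin (4 + 1)) x (X i) (by simp [hi])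
  have hy0 : y ≠ 0 := by
    rintro rfl
    simp at hy
  let w : Fin 5 → Fin 5 → k := fun j i => eval y (pderiv i (qE M j).1)
  have hr : 3 ≤ Module.finrank k ↥(Submodule.span k (Set.range w)) :=
    h y hy0 fun j => by rw [← pfR_eq]; exact hyz _ (hG j)
  obtain ⟨f, hf, -, hli⟩ := Submodule.exists_fun_fin_finrank_span_eq k (Set.range w)
  choose e he using hf
  have hli' : LinearIndependent k (fun n : Fin 3 => w (e (Fin.castLE hr n))) := by
    have h1 := hli.comp (Fin.castLE hr) (Fin.castLE_injective hr)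
    have h2 : f ∘ Fin.castLE hr = fun n : Fin 3 => w (e (Fin.castLE hr n)) := by
      funext n
      exact (he _).symm
    rwa [h2] at h1
  obtain ⟨σ, hσ⟩ := Groth.Agent.Lefpen.H718.Minor.exists_minor
    (Matrix.of fun n : Fin 3 => w (e (Fin.castLE hr n))) hli'
  apply hσ
  have h3 := hyz _ (hmin (fun n => e (Fin.castLE hr n)) σ)
  rw [RingHom.map_det] at h3
  rw [← h3]
  congr 1
  ext n l
  change eval y (pderiv (σ l) (qE M (e (Fin.castLE hr n))).1) = eval y (pderiv (σ l) (pfR (mE M) _).1)
  rw [pfR_eq]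
  rfl

/-- `JacE M → GoodE M` -/
theorem good_of_jacE [IsAlgClosed k] (M : DataE k)
    (h : ∀ x : Fin 5 → k, x ≠ 0 → (∀ j, eval x (qE M j).1 = 0) →
      3 ≤ Module.finrank k ↥(Submodule.span k (Set.range fun j : Fin 5 => fun i : Fin 5 =>
        eval x (pderiv i (qE M j).1)))) : GoodE M := by
  have hsm : SmoothOfRelativeDimension 1 (yStr (pfR (mE M))) := smooth_of_rank (mE M) (rank_of_jacE M h)
  rw [GoodE, cE_eq M]
  have h1 : Nonempty ↥(rciIdeal (pfR (mE M))).subscheme := by
    obtain ⟨x, hx, hx0⟩ := K332.PfNe.exists_zero M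
    refine QuartFam.nonempty_of_zero (pfR (mE M)) x hx fun j => ?_
    have hq : ∀ a b c d : Fin 6, a < b → b < c → c < d → d < 5 → eval x (qf4 M a b c d).1 = 0 := by
      intro a b c d h1 h2 h3 h4
      rw [qf4_val, map_pf4]
      simp only [eval_matE]
      exact hx0 a b c d h1 h2 h3 h4
    rw [pfR_eq]
    match j with
    | 0 => exact hq 1 2 3 4 (by decide) (by decide) (by decide) (by decide)
    | 1 => exact hq 0 2 3 4 (by decide) (by decide) (by decide) (by decide)
    | 2 => exact hq 0 1 3 4 (by decide) (by decide) (by decide) (by decide)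
    | 3 => exact hq 0 1 2 4 (by decide) (by decide) (by decide) (by decide)
    | 4 => exact hq 0 1 2 3 (by decide) (by decide) (by decide) (by decide)
  refine ⟨?_, ?_⟩
  · exact SmoothOfRelativeDimension.smooth 1 (yStr (pfR (mE M)))
  · exact_mod_cast K658.RelDimComp.topologicalKrullDim_eq 1
      ((rciIdeal (pfR (mE M))).subschemeι ≫ CohB1.ProjSpace.toSpec 4 k)

end K332.PfGood
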