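import Groth.Agent.Fano.K714.Frames
import Groth.Agent.Lefpen.H718.Minor
import Mathlib.RingTheory.Nullstellensatz

/-!
# Base change of a trilinear form to a larger field, and specialisation of points
-/

set_option autoImplicit false

universe u

namespace K332.BaseCh

open MvPolynomial Module K656.Trilin K714.Surf K714.Frames

variable {k : Type u} [Field k] {n : ℕ}

/-- the trilinear form over a larger field -/
noncomputable def bc (Ω : Type u) [Field Ω] [Algebra k Ω]
    (T : (Fin n → k) →ₗ[k] (Fin n → k) →ₗ[k] (Fin n → k) →ₗ[k] k) :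
    (Fin n → Ω) →ₗ[Ω] (Fin n → Ω) →ₗ[Ω] (Fin n → Ω) →ₗ[Ω] Ω :=
  ∑ i, ∑ j, ∑ l, algebraMap k Ω (T (Pi.single i 1) (Pi.single j 1) (Pi.single l 1)) •
    (LinearMap.proj (R := Ω) (φ := fun _ : Fin n => Ω) i).smulRight
      ((LinearMap.proj (R := Ω) (φ := fun _ : Fin n => Ω) j).smulRight
        (LinearMap.proj (R := Ω) (φ := fun _ : Fin n => Ω) l))

variable {Ω : Type u} [Field Ω] [Algebra k Ω]
variable {T : (Fin n → k) →ₗ[k] (Fin n → k) →ₗ[k] (Fin n → k) →ₗ[k] k}

theorem bc_apply (T : (Fin n → k) →ₗ[k] (Fin n → k) →ₗ[k] (Fin n → k) →ₗ[k] k) (u v w : Fin n → Ω) :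
    bc Ω T u v w = ∑ i, ∑ j, ∑ l,
      algebraMap k Ω (T (Pi.single i 1) (Pi.single j 1) (Pi.single l 1)) * (u i * v j * w l) := by
  simp only [bc, LinearMap.sum_apply, LinearMap.smul_apply, LinearMap.smulRight_apply, LinearMap.proj_apply,
    smul_eq_mul]
  refine Finset.sum_congr rfl fun i _ => Finset.sum_congr rfl fun j _ => Finset.sum_congr rfl fun l _ => ?_
  ring

theorem bc_sym (hT : IsSym3 T) : IsSym3 (bc Ω T) := by
  constructor
  · intro u v w
    rw [bc_apply, bc_apply, Finset.sum_comm]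
    refine Finset.sum_congr rfl fun i _ => Finset.sum_congr rfl fun j _ => Finset.sum_congr rfl fun l _ => ?_
    rw [hT.s12]
    ring
  · intro u v w
    rw [bc_apply, bc_apply]
    refine Finset.sum_congr rfl fun i _ => ?_
    rw [Finset.sum_comm]
    refine Finset.sum_congr rfl fun j _ => Finset.sum_congr rfl fun l _ => ?_
    rw [hT.s23]
    ring

theorem aeval_pT {σ : Type} (T : (Fin n → k) →ₗ[k] (Fin n → k) →ₗ[k] (Fin n → k) →ₗ[k] k)
    (u v w : Fin n → MvPolynomial σ k) (x : σ → Ω) :
    aeval x (pT T u v w) = bc Ω T (fun i => aeval x (u i)) (fun i => aeval x (v i)) (fun i => aeval x (w i)) := by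
  rw [bc_apply]
  simp only [pT, map_sum, map_mul, aeval_C]

/-- Leibniz rule -/
theorem der_bc (δ : Derivation k Ω Ω) (T : (Fin n → k) →ₗ[k] (Fin n → k) →ₗ[k] (Fin n → k) →ₗ[k] k)
    (u v w : Fin n → Ω) :
    δ (bc Ω T u v w) = bc Ω T (fun i => δ (u i)) v w + bc Ω T u (fun i => δ (v i)) w +
      bc Ω T u v (fun i => δ (w i)) := by
  simp only [bc_apply, map_sum, ← Finset.sum_add_distrib]
  refine Finset.sum_congr rfl fun i _ => Finset.sum_congr rfl fun j _ => Finset.sum_congr rfl fun m _ => ?_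
  rw [Derivation.leibniz, Derivation.leibniz, Derivation.leibniz, Derivation.map_algebraMap]
  simp only [smul_eq_mul]
  ring

theorem bc_alg (T : (Fin n → k) →ₗ[k] (Fin n → k) →ₗ[k] (Fin n → k) →ₗ[k] k) (u v w : Fin n → k) :
    bc Ω T (fun i => algebraMap k Ω (u i)) (fun i => algebraMap k Ω (v i)) (fun i => algebraMap k Ω (w i)) =
      algebraMap k Ω (T u v w) := by
  rw [bc_apply, T_expand T u v w]
  simp only [map_sum, map_mul]

/-- Specialisation of a point with values in a larger field. -/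
theorem exists_spec [IsAlgClosed k] {σ : Type} [Finite σ] (x : σ → Ω) (g : MvPolynomial σ k)
    (hg : aeval x g ≠ 0) :
    ∃ y : σ → k, eval y g ≠ 0 ∧ ∀ p : MvPolynomial σ k, aeval x p = 0 → eval y p = 0 := by
  let Q : Ideal (MvPolynomial σ k) := RingHom.ker (aeval x : MvPolynomial σ k →ₐ[k] Ω).toRingHom
  have hQ : Q.IsPrime := RingHom.ker_isPrime _
  have h := IsPrime.vanishingIdeal_zeroLocus (K := k) Q
  by_contra hcon
  push Not at hcon
  apply hg
  have h1 : g ∈ Q := by
    rw [← h, mem_vanishingIdeal_iff]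
    intro y hy
    rw [aeval_eq_eval]
    by_contra hne
    obtain ⟨p, hp, hpy⟩ := hcon y hne
    apply hpy
    have := hy p (by simpa [Q, RingHom.mem_ker] using hp)
    rwa [aeval_eq_eval] at this
  simpa [Q, RingHom.mem_ker] using h1

/-- Linear independence of rows of polynomials specialises. -/
theorem exists_minor_poly {σ : Type} {d r : ℕ} (x : σ → Ω) (M : Fin d → Fin r → MvPolynomial σ k)
    (h : LinearIndependent Ω (fun i => fun j => aeval x (M i j))) :
    ∃ g : MvPolynomial σ k, aeval x g ≠ 0 ∧ ∀ y : σ → k, eval y g ≠ 0 →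
      LinearIndependent k (fun i => fun j => eval y (M i j)) := by
  classical
  obtain ⟨s, hs⟩ := Groth.Agent.Lefpen.H718.Minor.exists_minor (Matrix.of fun i j => aeval x (M i j)) h
  refine ⟨(Matrix.of fun i j => M i (s j)).det, ?_, ?_⟩
  · have h1 : aeval x ((Matrix.of fun i j => M i (s j)).det) =
        ((Matrix.of fun i j => aeval x (M i j)).submatrix id s).det := by
      rw [AlgHom.map_det]
      rfl
    rw [h1]
    exact hs
  · intro y hy
    have h1 : eval y ((Matrix.of fun i j => M i (s j)).det) =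
        (Matrix.of fun i j => eval y (M i (s j))).det := by
      rw [RingHom.map_det]
      rfl
    rw [h1] at hy
    refine LinearIndependent.of_comp (LinearMap.funLeft k k s) ?_
    have h2 := Matrix.linearIndependent_rows_of_det_ne_zero hy
    exact h2

theorem ext_single {φ : (Fin n → k) →ₗ[k] k} (hφ : ∀ j, φ (Pi.single j 1) = 0) (u : Fin n → k) : φ u = 0 := by
  have : φ = 0 := LinearMap.pi_ext' fun j => LinearMap.ext_ring (by simpa using hφ j)
  rw [this]; rfl

/-- Smoothness is preserved by extension of the field. -/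
theorem bc_smooth [IsAlgClosed k] (hsm : SmoothOn T ⊤) : SmoothOn (bc Ω T) ⊤ := by
  intro v _ hv hvv
  by_contra hcon
  push Not at hcon
  obtain ⟨j, hj⟩ := Function.ne_iff.1 hv
  obtain ⟨y, hy, hyp⟩ := exists_spec (k := k) v (X j) (by simpa using hj)
  have h0 : y ≠ 0 := by
    rintro rfl
    simp at hy
  have h1 : T y y y = 0 := by
    have := hyp (pT T X X X) (by rw [aeval_pT]; simpa using hvv)
    rw [eval_pT] at this
    simpa using this
  obtain ⟨w, -, hw⟩ := hsm y trivial h0 h1
  apply hw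
  refine ext_single (fun l => ?_) w
  have h2 := hyp (pT T X X (fun i => C ((Pi.single l 1 : Fin n → k) i))) (by
    rw [aeval_pT]
    simp only [aeval_X]
    exact hcon _ trivial)
  rw [eval_pT] at h2
  simpa using h2

end K332.BaseCh
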