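import Groth.Agent.Fano.K470.CurDef
import Groth.Agent.Fano.K714.Zeros

/-!
# Lines through a point of a cubic threefold; a linear algebra criterion for lines of first type
-/

set_option autoImplicit false

universe u

namespace K332.FirstCore

open MvPolynomial Module K656.Trilin K714.Surf K714.Frames K470.Cur

section Hom

variable {k : Type u} [Field k] {n : ℕ}

theorem pT_isHomogeneous {σ : Type} (T : (Fin n → k) →ₗ[k] (Fin n → k) →ₗ[k] (Fin n → k) →ₗ[k] k)
    {u v w : Fin n → MvPolynomial σ k} {a b c : ℕ} (hu : ∀ i, (u i).IsHomogeneous a)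
    (hv : ∀ i, (v i).IsHomogeneous b) (hw : ∀ i, (w i).IsHomogeneous c) :
    (pT T u v w).IsHomogeneous (a + b + c) := by
  refine IsHomogeneous.sum _ _ _ fun i _ => IsHomogeneous.sum _ _ _ fun j _ => IsHomogeneous.sum _ _ _ fun l _ => ?_
  have := (isHomogeneous_C σ (T (Pi.single i 1) (Pi.single j 1) (Pi.single l 1))).mul
    (((hu i).mul (hv j)).mul (hw l))
  rwa [zero_add] at this

end Hom

section Line

variable {k : Type u} [Field k] [IsAlgClosed k]
variable {T : (Fin 5 → k) →ₗ[k] (Fin 5 → k) →ₗ[k] (Fin 5 → k) →ₗ[k] k}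

/-- there is a line through every point of the threefold -/
theorem exists_through {x : Fin 5 → k} (hx : x ≠ 0) (h : T x x x = 0) : ∃ p, (x, p) ∈ FR T := by
  obtain ⟨j, hj⟩ := Function.ne_iff.1 hx
  have hX : ∀ i : Fin 5, (X i : MvPolynomial (Fin 5) k).IsHomogeneous 1 := fun i => isHomogeneous_X k i
  have hC : ∀ i : Fin 5, (C (x i) : MvPolynomial (Fin 5) k).IsHomogeneous 0 := fun i => isHomogeneous_C _ _
  let g : Fin 4 → MvPolynomial (Fin 5) k :=
    ![pT T (fun i => C (x i)) (fun i => C (x i)) X, pT T (fun i => C (x i)) X X, pT T X X X, X j]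
  let e : Fin 4 → ℕ := ![0 + 0 + 1, 0 + 1 + 1, 1 + 1 + 1, 1]
  have he : ∀ i, 0 < e i := by
    rw [Fin.forall_fin_succ, Fin.forall_fin_succ, Fin.forall_fin_succ, Fin.forall_fin_one]
    exact ⟨by simp [e], by simp [e], by simp [e], by simp [e]⟩
  have g0 : (pT T (fun i => C (x i)) (fun i => C (x i)) X).IsHomogeneous (0 + 0 + 1) :=
    pT_isHomogeneous T (u := fun i => C (x i)) (v := fun i => C (x i)) (w := X) hC hC hX
  have g1 : (pT T (fun i => C (x i)) X X).IsHomogeneous (0 + 1 + 1) :=
    pT_isHomogeneous T (u := fun i => C (x i)) (v := X) (w := X) hC hX hX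
  have g2 : (pT T X X X).IsHomogeneous (1 + 1 + 1) :=
    pT_isHomogeneous T (u := X) (v := X) (w := X) hX hX hX
  have hg : ∀ i, (g i).IsHomogeneous (e i) := by
    rw [Fin.forall_fin_succ, Fin.forall_fin_succ, Fin.forall_fin_succ, Fin.forall_fin_one]
    exact ⟨g0, g1, g2, hX j⟩
  obtain ⟨p, hp, hpz⟩ := K714.Zeros.exists_ne_zero (N := 5) (ι := Fin 4)
    (by rw [Fintype.card_fin]; norm_num) e he g hg
  have h0 : T x x p = 0 := by simpa [g, eval_pT] using hpz 0
  have h1 : T x p p = 0 := by simpa [g, eval_pT] using hpz 1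
  have h2 : T p p p = 0 := by simpa [g, eval_pT] using hpz 2
  have h3 : p j = 0 := by simpa [g] using hpz 3
  refine ⟨p, ?_, h, h0, h1, h2⟩
  rw [LinearIndependent.pair_iff]
  intro s t hst
  have h4 := congrFun hst j
  simp only [Pi.add_apply, Pi.smul_apply, smul_eq_mul, h3, mul_zero, add_zero, Pi.zero_apply] at h4
  have hs : s = 0 := (mul_eq_zero.1 h4).resolve_right hj
  refine ⟨hs, ?_⟩
  rw [hs, zero_smul, zero_add] at hst
  exact (smul_eq_zero.1 hst).resolve_right hp

variable [CharZero k]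

omit [IsAlgClosed k] [CharZero k] in
/-- smoothness along a line -/
theorem ne_along (hT : IsSym3 T) (hsm : SmoothOn T ⊤) {a b : Fin 5 → k} (hp : (a, b) ∈ FR T) (s t : k)
    (hst : s ≠ 0 ∨ t ≠ 0) : ∃ u, s ^ 2 * T a a u + 2 * (s * t) * T a b u + t ^ 2 * T b b u ≠ 0 := by
  obtain ⟨hli, e1, e2, e3, e4⟩ := hp
  simp only at hli e1 e2 e3 e4
  have hv : s • a + t • b ≠ 0 := by
    intro h0
    obtain ⟨h3, h4⟩ := LinearIndependent.pair_iff.1 hli s t h0
    rcases hst with h | h
    · exact h h3
    · exact h h4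
  have h0 : T (s • a + t • b) (s • a + t • b) (s • a + t • b) = 0 := by
    rw [hT.cube_smul_add_smul, e1, e2, e3, e4]
    ring
  obtain ⟨w, -, hw⟩ := hsm _ Submodule.mem_top hv h0
  refine ⟨w, ?_⟩
  rw [hT.sq_smul_add_smul] at hw
  intro h
  apply hw
  linear_combination h

omit [IsAlgClosed k] [CharZero k] in
theorem prop_of_ker {V : Type u} [AddCommGroup V] [Module k V] {φ A : V →ₗ[k] k}
    (h : ∀ u, A u = 0 → φ u = 0) : ∃ c : k, ∀ u, φ u = c * A u := by
  by_cases hA : ∃ u, A u ≠ 0
  · obtain ⟨u₀, hu₀⟩ := hA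
    refine ⟨φ u₀ / A u₀, fun u => ?_⟩
    have h1 := h (u - (A u / A u₀) • u₀) (by
      rw [map_sub, map_smul, smul_eq_mul, div_mul_cancel₀ _ hu₀, sub_self])
    rw [map_sub, map_smul, smul_eq_mul, sub_eq_zero] at h1
    rw [h1]
    field_simp
  · push Not at hA
    exact ⟨0, fun u => by rw [h u (hA u), zero_mul]⟩

omit [IsAlgClosed k] [CharZero k] in
/-- four independent vectors span the kernel of a nonzero functional on `k^5` -/
theorem mem_span_of_ker {A : (Fin 5 → k) →ₗ[k] k} (hA : A ≠ 0) {w : Fin 4 → Fin 5 → k}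
    (hw : LinearIndependent k w) (h : ∀ i, A (w i) = 0) {u : Fin 5 → k} (hu : A u = 0) :
    u ∈ Submodule.span k (Set.range w) := by
  have h1 : Submodule.span k (Set.range w) ≤ LinearMap.ker A := by
    rw [Submodule.span_le]
    rintro _ ⟨i, rfl⟩
    exact h i
  have h2 : finrank k ↥(Submodule.span k (Set.range w)) = 4 := by
    rw [finrank_span_eq_card hw, Fintype.card_fin]
  have h3 : finrank k ↥(LinearMap.ker A) = 4 := by
    have h4 := LinearMap.finrank_range_add_finrank_ker A
    rw [LinearMap.range_eq_top.2 (LinearMap.surjective hA), finrank_top, finrank_self,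
      finrank_fin_fun] at h4
    omega
  have h5 := Submodule.eq_of_le_of_finrank_eq h1 (by rw [h2, h3])
  rw [h5]
  exact hu

/-- criterion for lines of first type -/
theorem first_of_vectors (hT : IsSym3 T) (hsm : SmoothOn T ⊤) {x p : Fin 5 → k} (hp : (x, p) ∈ FR T)
    {w z : Fin 4 → Fin 5 → k} (hw : LinearIndependent k w) (h1 : ∀ i, T x x (w i) = 0)
    (h2 : ∀ i, 2 * T x p (w i) + T x x (z i) = 0) (h3 : ∀ i, T p p (w i) + 2 * T x p (z i) = 0)
    (h4 : ∀ i, T p p (z i) = 0) : First T x p := by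
  have hA : T x x ≠ 0 := by
    obtain ⟨u, hu⟩ := ne_along hT hsm hp 1 0 (Or.inl one_ne_zero)
    intro h0
    apply hu
    rw [h0]
    simp
  have hext : ∀ φ : (Fin 5 → k) →ₗ[k] k, (∀ i, φ (w i) = 0) → ∃ c : k, ∀ u, φ u = c * T x x u := by
    intro φ hφ
    refine prop_of_ker fun u hu => ?_
    have h5 := mem_span_of_ker hA hw h1 hu
    have h6 : Submodule.span k (Set.range w) ≤ LinearMap.ker φ := by
      rw [Submodule.span_le]
      rintro _ ⟨i, rfl⟩
      exact hφ i
    exact h6 h5
  rw [First, Fintype.linearIndependent_iff]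
  intro g hg
  have hrel : ∀ u, g 0 * T x x u + g 1 * T x p u + g 2 * T p p u = 0 := by
    intro u
    have := LinearMap.congr_fun hg u
    simpa [Fin.sum_univ_three] using this
  by_contra hcon
  -- the two relations on the vectors
  have r1 : ∀ i, g 1 * T x p (w i) + g 2 * T p p (w i) = 0 := by
    intro i
    have := hrel (w i)
    rw [h1] at this
    linear_combination this
  have r2 : ∀ i, 4 * g 0 * T x p (w i) + g 1 * T p p (w i) = 0 := by
    intro i
    have := hrel (z i)
    rw [h4] at this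
    linear_combination (-2) * this + 2 * g 0 * h2 i + g 1 * h3 i
  by_cases hd : g 1 ^ 2 - 4 * g 0 * g 2 = 0
  · by_cases h0 : g 0 = 0
    · have h5 : g 1 = 0 := by
        rw [h0] at hd
        have : g 1 ^ 2 = 0 := by linear_combination hd
        exact pow_eq_zero_iff (two_ne_zero) |>.1 this
      have h6 : g 2 ≠ 0 := by
        intro h6
        apply hcon
        intro i
        fin_cases i
        · exact h0
        · exact h5
        · exact h6
      obtain ⟨u, hu⟩ := ne_along hT hsm hp 0 1 (Or.inr one_ne_zero)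
      apply hu
      have h7 := hrel u
      rw [h0, h5] at h7
      have h8 : g 2 * T p p u = 0 := by linear_combination h7
      rw [(mul_eq_zero.1 h8).resolve_left h6]
      ring
    · obtain ⟨u, hu⟩ := ne_along hT hsm hp (2 * g 0) (g 1) (Or.inl (mul_ne_zero two_ne_zero h0))
      apply hu
      linear_combination 4 * g 0 * hrel u + T p p u * hd
  · have hB : ∀ i, T x p (w i) = 0 := by
      intro i
      have : (g 1 ^ 2 - 4 * g 0 * g 2) * T x p (w i) = 0 := by
        linear_combination g 1 * r1 i - g 2 * r2 i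
      exact (mul_eq_zero.1 this).resolve_left hd
    have hC : ∀ i, T p p (w i) = 0 := by
      intro i
      have : (g 1 ^ 2 - 4 * g 0 * g 2) * T p p (w i) = 0 := by
        linear_combination g 1 * r2 i - 4 * g 0 * r1 i
      exact (mul_eq_zero.1 this).resolve_left hd
    obtain ⟨b, hb⟩ := hext _ hB
    obtain ⟨c, hc⟩ := hext _ hC
    obtain ⟨s, t, hst, hq⟩ := exists_quad_zero (1 : k) (2 * b) c
    obtain ⟨u, hu⟩ := ne_along hT hsm hp s t hst
    apply hu
    rw [hb u, hc u]
    linear_combination T x x u * hq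

end Line

end K332.FirstCore
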