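import Groth.Agent.Fano.K332.BaseCh
import Groth.Agent.Fano.K332.FirstCore
import Groth.Agent.Fano.K925.GenDer

/-!
# General lines of a smooth cubic threefold are of first type
-/

set_option autoImplicit false

universe u

namespace K332.FirstT

open MvPolynomial Module K656.Trilin K714.Surf K714.Frames K470.Cur K332.BaseCh K332.FirstCore

variable {k : Type u} [Field k]

section Xc

variable {Ω : Type u} [Field Ω] [Algebra k Ω]

theorem aeval_Av (p : (Fin 5 → Ω) × (Fin 5 → Ω)) :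
    (fun i => aeval (xc p) (Av i : MvPolynomial (Fin (5 + 5)) k)) = p.1 := by
  funext i; simp [Av, xc]

theorem aeval_Bv (p : (Fin 5 → Ω) × (Fin 5 → Ω)) :
    (fun i => aeval (xc p) (Bv i : MvPolynomial (Fin (5 + 5)) k)) = p.2 := by
  funext i
  change aeval (xc p) (MvPolynomial.X (Fin.natAdd 5 i)) = p.2 i
  rw [MvPolynomial.aeval_X]
  exact Fin.append_right _ _ _

theorem exists_xc {K : Type u} (y : Fin (5 + 5) → K) : ∃ q : (Fin 5 → K) × (Fin 5 → K), y = xc q :=
  ⟨(fun i => y (Fin.castAdd 5 i), fun i => y (Fin.natAdd 5 i)), (Fin.append_castAdd_natAdd (f := y)).symm⟩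

/-- the four equations at a point over a larger field -/
theorem aeval_eqs (T : (Fin 5 → k) →ₗ[k] (Fin 5 → k) →ₗ[k] (Fin 5 → k) →ₗ[k] k)
    (p : (Fin 5 → Ω) × (Fin 5 → Ω)) :
    (∀ i, MvPolynomial.aeval (xc p) (eqs T i) = 0) ↔
      (bc Ω T p.1 p.1 p.1 = 0 ∧ bc Ω T p.1 p.1 p.2 = 0 ∧ bc Ω T p.1 p.2 p.2 = 0 ∧ bc Ω T p.2 p.2 p.2 = 0) := by
  rw [Fin.forall_fin_succ, Fin.forall_fin_succ, Fin.forall_fin_succ, Fin.forall_fin_succ]
  simp [eqs, aeval_pT, aeval_Av, aeval_Bv]

theorem indep_poly {p : (Fin 5 → Ω) × (Fin 5 → Ω)} (h : LinearIndependent Ω ![p.1, p.2]) :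
    ∃ g : MvPolynomial (Fin (5 + 5)) k, aeval (xc p) g ≠ 0 ∧ ∀ q : (Fin 5 → k) × (Fin 5 → k),
      eval (xc q) g ≠ 0 → LinearIndependent k ![q.1, q.2] := by
  obtain ⟨g, hg, hg'⟩ := exists_minor_poly (k := k) (xc p) (![Av, Bv] : Fin 2 → Fin 5 → _) (by
    have : (fun i : Fin 2 => fun j : Fin 5 => aeval (xc p) ((![Av, Bv] : Fin 2 → Fin 5 →
        MvPolynomial (Fin (5 + 5)) k) i j)) = ![p.1, p.2] := by
      funext i
      refine Fin.cases ?_ (fun i => ?_) i
      · exact aeval_Av p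
      · refine Fin.cases ?_ (fun i => i.elim0) i
        exact aeval_Bv p
    rw [this]
    exact h)
  refine ⟨g, hg, fun q hq => ?_⟩
  have h1 := hg' (xc q) hq
  have : (fun i : Fin 2 => fun j : Fin 5 => eval (xc q) ((![Av, Bv] : Fin 2 → Fin 5 →
      MvPolynomial (Fin (5 + 5)) k) i j)) = ![q.1, q.2] := by
    funext i
    refine Fin.cases ?_ (fun i => ?_) i
    · exact eval_Av q
    · refine Fin.cases ?_ (fun i => i.elim0) i
      exact eval_Bv q
  rwa [this] at h1

end Xc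

section Main

variable [IsAlgClosed k] [CharZero k]
variable {T : (Fin 5 → k) →ₗ[k] (Fin 5 → k) →ₗ[k] (Fin 5 → k) →ₗ[k] k}

section First

variable {Ω : Type u} [Field Ω] [Algebra k Ω]

/-- the `3 × 5` matrix of the three functionals -/
noncomputable def Mf (T : (Fin 5 → k) →ₗ[k] (Fin 5 → k) →ₗ[k] (Fin 5 → k) →ₗ[k] k) :
    Fin 3 → Fin 5 → MvPolynomial (Fin (5 + 5)) k :=
  ![fun j => pT T Av Av (fun i => C ((Pi.single j 1 : Fin 5 → k) i)),
    fun j => pT T Av Bv (fun i => C ((Pi.single j 1 : Fin 5 → k) i)),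
    fun j => pT T Bv Bv (fun i => C ((Pi.single j 1 : Fin 5 → k) i))]

/-- values of functionals on the standard basis -/
def evb (k : Type u) [Field k] : ((Fin 5 → k) →ₗ[k] k) →ₗ[k] (Fin 5 → k) where
  toFun φ := fun j => φ (Pi.single j 1)
  map_add' _ _ := rfl
  map_smul' _ _ := rfl

omit [IsAlgClosed k] [CharZero k] in
theorem evb_inj : LinearMap.ker (evb k) = ⊥ := by
  rw [LinearMap.ker_eq_bot']
  intro φ hφ
  refine LinearMap.ext fun u => ?_
  exact ext_single (fun j => congrFun hφ j) u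

omit [IsAlgClosed k] [CharZero k] in
theorem aeval_Mf (p : (Fin 5 → Ω) × (Fin 5 → Ω)) :
    (fun i : Fin 3 => fun j : Fin 5 => aeval (xc p) (Mf T i j)) =
      fun i => evb Ω ((![bc Ω T p.1 p.1, bc Ω T p.1 p.2, bc Ω T p.2 p.2] : Fin 3 → _) i) := by
  have h : ∀ j : Fin 5, (fun i => aeval (xc p) (C ((Pi.single j 1 : Fin 5 → k) i) :
      MvPolynomial (Fin (5 + 5)) k)) = (Pi.single j 1 : Fin 5 → Ω) := by
    intro j
    funext i
    rw [aeval_C, Pi.single_apply, Pi.single_apply]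
    split_ifs <;> simp
  funext i
  refine Fin.cases ?_ (fun i => ?_) i
  · funext j
    change aeval (xc p) (pT T Av Av _) = bc Ω T p.1 p.1 (Pi.single j 1)
    rw [aeval_pT, aeval_Av, h]
  · refine Fin.cases ?_ (fun i => ?_) i
    · funext j
      change aeval (xc p) (pT T Av Bv _) = bc Ω T p.1 p.2 (Pi.single j 1)
      rw [aeval_pT, aeval_Av, aeval_Bv, h]
    · refine Fin.cases ?_ (fun i => i.elim0) i
      funext j
      change aeval (xc p) (pT T Bv Bv _) = bc Ω T p.2 p.2 (Pi.single j 1)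
      rw [aeval_pT, aeval_Bv, h]

omit [IsAlgClosed k] [CharZero k] in
theorem eval_Mf (p : (Fin 5 → k) × (Fin 5 → k)) :
    (fun i : Fin 3 => fun j : Fin 5 => eval (xc p) (Mf T i j)) =
      fun i => evb k ((![T p.1 p.1, T p.1 p.2, T p.2 p.2] : Fin 3 → _) i) := by
  have h : ∀ j : Fin 5, (fun i => eval (xc p) (C ((Pi.single j 1 : Fin 5 → k) i) :
      MvPolynomial (Fin (5 + 5)) k)) = (Pi.single j 1 : Fin 5 → k) := by
    intro j
    funext i
    rw [eval_C]
  funext i
  refine Fin.cases ?_ (fun i => ?_) i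
  · funext j
    change eval (xc p) (pT T Av Av _) = T p.1 p.1 (Pi.single j 1)
    rw [eval_pT, eval_Av, h]
  · refine Fin.cases ?_ (fun i => ?_) i
    · funext j
      change eval (xc p) (pT T Av Bv _) = T p.1 p.2 (Pi.single j 1)
      rw [eval_pT, eval_Av, eval_Bv, h]
    · refine Fin.cases ?_ (fun i => i.elim0) i
      funext j
      change eval (xc p) (pT T Bv Bv _) = T p.2 p.2 (Pi.single j 1)
      rw [eval_pT, eval_Bv, h]

omit [CharZero k] in
/-- lines of first type over a larger field specialise to lines of first type -/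
theorem first_spec {p : (Fin 5 → Ω) × (Fin 5 → Ω)} (hp : p ∈ FR (bc Ω T)) (hf : First (bc Ω T) p.1 p.2) :
    ∃ x p, (x, p) ∈ FR T ∧ First T x p := by
  obtain ⟨g, hg, hg'⟩ := indep_poly (k := k) hp.1
  obtain ⟨f, hf1, hf'⟩ := exists_minor_poly (k := k) (xc p) (Mf T) (by
    rw [aeval_Mf]
    exact LinearIndependent.map' hf (evb Ω) evb_inj)
  obtain ⟨y, hy, hyz⟩ := exists_spec (k := k) (xc p) (g * f) (by
    rw [map_mul]; exact mul_ne_zero hg hf1)
  obtain ⟨q, rfl⟩ := exists_xc y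
  rw [map_mul] at hy
  have h1 := hg' q (left_ne_zero_of_mul hy)
  have h2 := hf' (xc q) (right_ne_zero_of_mul hy)
  rw [eval_Mf] at h2
  have h3 := (eval_eqs T q).1 fun i => hyz _ ((aeval_eqs T p).2 hp.2 i)
  refine ⟨q.1, q.2, ⟨h1, h3⟩, ?_⟩
  exact LinearIndependent.of_comp (evb k) h2

end First

/-- **General lines are of first type.** -/
theorem exists_first (hT : IsSym3 T) (hsm : SmoothOn T ⊤) : ∃ x p, (x, p) ∈ FR T ∧ First T x p := by
  let F : MvPolynomial (Fin 5) k := pT T X X X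
  have hF : Ideal.span {F} ≠ ⊤ := by
    intro h
    have h1 : Ideal.span {F} ≤ RingHom.ker (eval (0 : Fin 5 → k)) := by
      rw [Ideal.span_singleton_le_iff_mem, RingHom.mem_ker, eval_pT]
      have : (fun i : Fin 5 => eval (0 : Fin 5 → k) (X i : MvPolynomial (Fin 5) k)) = 0 := by
        funext i; simp
      rw [this, map_zero]
    rw [h] at h1
    have h2 := h1 (Submodule.mem_top (x := (1 : MvPolynomial (Fin 5) k)))
    rw [RingHom.mem_ker, map_one] at h2
    exact one_ne_zero h2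
  obtain ⟨P, hP⟩ := Ideal.nonempty_minimalPrimes hF
  have : P.IsPrime := hP.1.1
  have hht : P.height ≤ 1 := Ideal.height_le_one_of_isPrincipal_of_mem_minimalPrimes _ P hP
  have hFP : F ∈ P := hP.1.2 (Ideal.mem_span_singleton_self F)
  obtain ⟨Ω, _, _, _, ξ, hξ, δ, hδ⟩ := K925.GenDer.exists_generic (k := k) (N := 5) (d := 4) P (by
    calc P.height + ((4 : ℕ) : ℕ∞) ≤ 1 + ((4 : ℕ) : ℕ∞) := by gcongr
      _ = ((5 : ℕ) : ℕ∞) := by norm_num)
  have : CharZero Ω := charZero_of_injective_algebraMap (algebraMap k Ω).injective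
  have hTΩ := bc_sym (Ω := Ω) hT
  have hsmΩ := bc_smooth (Ω := Ω) hsm
  have hξ0 : ξ ≠ 0 := by
    rintro rfl
    have := hδ.ne_zero 0
    apply this
    funext j
    simp
  have hξT : bc Ω T ξ ξ ξ = 0 := by
    have := (hξ F).2 hFP
    simpa [F, aeval_pT] using this
  obtain ⟨p, hp⟩ := exists_through hξ0 hξT
  have hp' := hp
  obtain ⟨-, e1, e2, e3, e4⟩ := hp'
  simp only at e1 e2 e3 e4
  refine first_spec (p := (ξ, p)) hp ?_
  refine first_of_vectors hTΩ hsmΩ hp (w := fun i j => δ i (ξ j)) (z := fun i j => δ i (p j)) hδ ?_ ?_ ?_ ?_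
  · intro i
    have h := der_bc (δ i) T ξ ξ ξ
    rw [e1, map_zero, hTΩ.rot (fun j => δ i (ξ j)) ξ ξ, hTΩ.s23 ξ (fun j => δ i (ξ j)) ξ] at h
    have h3 : (3 : Ω) ≠ 0 := by norm_num
    have : 3 * bc Ω T ξ ξ (fun j => δ i (ξ j)) = 0 := by linear_combination -h
    exact (mul_eq_zero.1 this).resolve_left h3
  · intro i
    have h := der_bc (δ i) T ξ ξ p
    rw [e2, map_zero, hTΩ.rot (fun j => δ i (ξ j)) ξ p, hTΩ.s23 ξ (fun j => δ i (ξ j)) p] at h
    linear_combination -h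
  · intro i
    have h := der_bc (δ i) T ξ p p
    rw [e3, map_zero, hTΩ.rot (fun j => δ i (ξ j)) p p, hTΩ.s23 ξ (fun j => δ i (p j)) p] at h
    linear_combination -h
  · intro i
    have h := der_bc (δ i) T p p p
    rw [e4, map_zero, hTΩ.rot (fun j => δ i (p j)) p p, hTΩ.s23 p (fun j => δ i (p j)) p] at h
    have h3 : (3 : Ω) ≠ 0 := by norm_num
    have : 3 * bc Ω T p p (fun j => δ i (p j)) = 0 := by linear_combination -h
    exact (mul_eq_zero.1 this).resolve_left h3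

end Main

end K332.FirstT
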