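import Groth.Agent.Fano.K332.FirstT
import Groth.Agent.Fano.K714.FrIrr

/-!
# The variety of frames of lines on a smooth cubic threefold has dimension at most six
-/

set_option autoImplicit false

universe u

namespace K332.FrDim

open MvPolynomial Module K656.Trilin K714.Surf K714.Frames K714.Irr K470.Cur K332.BaseCh K332.FirstCore
  K332.FirstT LefPen Groth.Agent.Lefpen.H703.ZOpen

variable {k : Type u} [Field k]

/-- an algebraically independent family from a dominant map -/
theorem algInd_of_dimGE [Infinite k] {n d : ℕ} {X : Type u} [AddCommGroup X] [Module k X]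
    (e : X ≃ₗ[k] (Fin n → k)) {S : Set X} (hd : DimGE k S d) (P : Ideal (MvPolynomial (Fin n) k))
    (hP : ∀ p, p ∈ P ↔ ∀ s ∈ S, eval (e s) p = 0) :
    ∃ y : Fin d → MvPolynomial (Fin n) k ⧸ P, AlgebraicIndependent k y := by
  obtain ⟨φ, hφ, H⟩ := hd
  choose g hg using fun i => exists_eval e (isPolyMap_pi.1 hφ i)
  refine ⟨fun i => Ideal.Quotient.mk P (g i), ?_⟩
  rw [algebraicIndependent_iff]
  intro F hF
  have h1 : (aeval (fun i => (Ideal.Quotient.mk P) (g i))) F = Ideal.Quotient.mk P (aeval g F) := by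
    have h2 : (aeval (fun i => (Ideal.Quotient.mk P) (g i)) : MvPolynomial (Fin d) k →ₐ[k] _) =
        (Ideal.Quotient.mkₐ k P).comp (aeval g) := by
      ext j
      simp
    rw [h2]
    rfl
  rw [h1, Ideal.Quotient.eq_zero_iff_mem, hP] at hF
  by_contra hne
  have h2 : ∃ x : Fin d → k, eval x F ≠ 0 := by
    by_contra hcon
    push Not at hcon
    exact hne (MvPolynomial.funext fun x => by rw [hcon x, map_zero])
  obtain ⟨x, hx⟩ := h2
  obtain ⟨s, hs, hsO⟩ := H {x | eval x F ≠ 0}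
    (isZOpen_basic (isPolyFun_eval F fun i => isPolyFun_linear'
      (LinearMap.proj (R := k) (φ := fun _ : Fin d => k) i))) ⟨x, hx⟩
  apply hsO
  have h3 := hF s hs
  have h5 : φ s = fun i => eval (e s) (g i) := funext fun i => hg i s
  have h6 : (aeval (e s) : MvPolynomial (Fin n) k →ₐ[k] k).comp (aeval g) =
      aeval (fun i => aeval (e s) (g i)) := comp_aeval g _
  have h7 := AlgHom.congr_fun h6 F
  simp only [AlgHom.comp_apply, aeval_eq_eval] at h7
  rw [h5, ← h7]
  exact h3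

/-- an irreducible set has a prime vanishing ideal -/
theorem isPrime_van [Infinite k] {n : ℕ} {X : Type u} [AddCommGroup X] [Module k X]
    (e : X ≃ₗ[k] (Fin n → k)) {S : Set X} (hS : Irr k S) (P : Ideal (MvPolynomial (Fin n) k))
    (hP : ∀ p, p ∈ P ↔ ∀ s ∈ S, eval (e s) p = 0) : P.IsPrime := by
  have hpf : ∀ f : MvPolynomial (Fin n) k, IsPolyFun k (fun s : X => eval (e s) f) := fun f =>
    isPolyFun_eval f fun i => isPolyFun_linear'
      ((LinearMap.proj (R := k) (φ := fun _ : Fin n => k) i).comp e.toLinearMap)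
  constructor
  · intro h
    obtain ⟨s, hs⟩ := hS.1
    have h1 := (hP 1).1 (by rw [h]; trivial) s hs
    rw [map_one] at h1
    exact one_ne_zero h1
  · intro f g hfg
    by_contra hcon
    push Not at hcon
    obtain ⟨hf, hg⟩ := hcon
    rw [hP] at hf hg
    push Not at hf hg
    obtain ⟨s, hs, hs'⟩ := hf
    obtain ⟨t, ht, ht'⟩ := hg
    obtain ⟨r, hr, hr1, hr2⟩ := hS.2 _ _ (isZOpen_basic (hpf f)) (isZOpen_basic (hpf g)) ⟨s, hs, hs'⟩ ⟨t, ht, ht'⟩
    have h1 := (hP _).1 hfg r hr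
    rw [map_mul] at h1
    exact mul_ne_zero hr1 hr2 h1

section Tan

variable [IsAlgClosed k] [CharZero k]
variable {T : (Fin 5 → k) →ₗ[k] (Fin 5 → k) →ₗ[k] (Fin 5 → k) →ₗ[k] k}

/-- the differentials of the four equations -/
noncomputable def Lt (T : (Fin 5 → k) →ₗ[k] (Fin 5 → k) →ₗ[k] (Fin 5 → k) →ₗ[k] k) (x p : Fin 5 → k) :
    ((Fin 5 → k) × (Fin 5 → k)) →ₗ[k] (Fin 4 → k) :=
  LinearMap.pi ![(T x x).comp (LinearMap.fst k _ _),
    (2 • (T x p)).comp (LinearMap.fst k _ _) + (T x x).comp (LinearMap.snd k _ _),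
    (T p p).comp (LinearMap.fst k _ _) + (2 • (T x p)).comp (LinearMap.snd k _ _),
    (T p p).comp (LinearMap.snd k _ _)]

theorem range_Lt (hT : IsSym3 T) (hsm : SmoothOn T ⊤) {x p : Fin 5 → k} (hp : (x, p) ∈ FR T) :
    LinearMap.range (Lt T x p) = ⊤ := by
  by_contra hne
  obtain ⟨f, hf, hle⟩ := Submodule.exists_le_ker_of_lt_top _ (lt_top_iff_ne_top.2 hne)
  have hfc : ∀ v, f v = ∑ i, f (Pi.single i 1) * v i := by
    intro v
    conv_lhs => rw [← Finset.univ_sum_single v]
    rw [map_sum]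
    refine Finset.sum_congr rfl fun i _ => ?_
    have : (Pi.single i (v i) : Fin 4 → k) = v i • Pi.single i 1 := by
      rw [← Pi.single_smul, smul_eq_mul, mul_one]
    rw [this, map_smul, smul_eq_mul, mul_comm]
  have h : ∀ u v : Fin 5 → k, f (Pi.single 0 1) * T x x u + f (Pi.single 1 1) * (2 * T x p u + T x x v) +
      f (Pi.single 2 1) * (T p p u + 2 * T x p v) + f (Pi.single 3 1) * T p p v = 0 := by
    intro u v
    have h1 : f (Lt T x p (u, v)) = 0 := hle ⟨(u, v), rfl⟩
    rw [hfc, Fin.sum_univ_four] at h1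
    simpa [Lt] using h1
  have h3 : (3 : k) ≠ 0 := by norm_num
  have h2 := no_relation hT hsm hp (c0 := f (Pi.single 0 1) / 3) (c1 := f (Pi.single 1 1))
    (c2 := f (Pi.single 2 1)) (c3 := f (Pi.single 3 1) / 3) (fun u => by
      have := h u 0
      simp only [map_zero] at this
      field_simp
      linear_combination this) (fun u => by
      have := h 0 u
      simp only [map_zero] at this
      field_simp
      linear_combination this)
  apply hf
  refine ext_single (fun j => ?_) |> LinearMap.ext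
  obtain ⟨e0, e1, e2, e3⟩ := h2
  have e0' : f (Pi.single 0 1) = 0 := by
    rcases div_eq_zero_iff.1 e0 with h | h
    · exact h
    · exact absurd h h3
  have e3' : f (Pi.single 3 1) = 0 := by
    rcases div_eq_zero_iff.1 e3 with h | h
    · exact h
    · exact absurd h h3
  fin_cases j
  exacts [e0', e1, e2, e3']

theorem tan_le (hT : IsSym3 T) (hsm : SmoothOn T ⊤) {x p : Fin 5 → k} (hp : (x, p) ∈ FR T) {d : ℕ}
    {w : Fin d → (Fin 5 → k) × (Fin 5 → k)} (hw : LinearIndependent k w)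
    (h : ∀ i, Lt T x p (w i) = 0) : d ≤ 6 := by
  have h1 := LinearMap.finrank_range_add_finrank_ker (Lt T x p)
  rw [range_Lt hT hsm hp, finrank_top, finrank_fin_fun, finrank_prod, finrank_fin_fun] at h1
  have h2 : LinearIndependent k (fun i => (⟨w i, h i⟩ : ↥(LinearMap.ker (Lt T x p)))) :=
    LinearIndependent.of_comp (LinearMap.ker (Lt T x p)).subtype hw
  have h3 := h2.fintype_card_le_finrank
  rw [Fintype.card_fin] at h3
  omega

omit [IsAlgClosed k] [CharZero k] in
/-- nonvanishing minors -/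
theorem indep_gen {q₀ : (Fin 5 → k) × (Fin 5 → k)} (h : LinearIndependent k ![q₀.1, q₀.2]) :
    ∃ g : MvPolynomial (Fin (5 + 5)) k, eval (xc q₀) g ≠ 0 ∧ ∀ (Ω : Type u) [Field Ω] [Algebra k Ω]
      (q : (Fin 5 → Ω) × (Fin 5 → Ω)), aeval (xc q) g ≠ 0 → LinearIndependent Ω ![q.1, q.2] := by
  classical
  obtain ⟨s, hs⟩ := Groth.Agent.Lefpen.H718.Minor.exists_minor
    (Matrix.of (![q₀.1, q₀.2] : Fin 2 → Fin 5 → k)) h
  refine ⟨(Matrix.of fun i j => (![Av, Bv] : Fin 2 → Fin 5 → MvPolynomial (Fin (5 + 5)) k) i (s j)).det, ?_, ?_⟩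
  · rw [RingHom.map_det]
    have h1 : (RingHom.mapMatrix (eval (xc q₀))) (Matrix.of fun i j =>
        (![Av, Bv] : Fin 2 → Fin 5 → MvPolynomial (Fin (5 + 5)) k) i (s j)) =
        (Matrix.of (![q₀.1, q₀.2] : Fin 2 → Fin 5 → k)).submatrix id s := by
      ext i j
      refine Fin.cases ?_ (fun i => ?_) i
      · exact congrFun (eval_Av q₀) (s j)
      · refine Fin.cases ?_ (fun i => i.elim0) i
        exact congrFun (eval_Bv q₀) (s j)
    rw [h1]
    exact hs
  · intro Ω _ _ q hq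
    rw [AlgHom.map_det] at hq
    refine LinearIndependent.of_comp (LinearMap.funLeft Ω Ω s) ?_
    have h2 := Matrix.linearIndependent_rows_of_det_ne_zero hq
    have h3 : (⇑(LinearMap.funLeft Ω Ω s) ∘ ![q.1, q.2]) =
        fun i => (aeval (xc q)).mapMatrix (Matrix.of fun i j =>
          (![Av, Bv] : Fin 2 → Fin 5 → MvPolynomial (Fin (5 + 5)) k) i (s j)) i := by
      funext i
      refine Fin.cases ?_ (fun i => ?_) i
      · funext j
        exact (congrFun (aeval_Av q) (s j)).symm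
      · refine Fin.cases ?_ (fun i => i.elim0) i
        funext j
        exact (congrFun (aeval_Bv q) (s j)).symm
    rw [h3]
    exact h2

/-- **The variety of frames of lines has dimension at most six.** -/
theorem dimLE_FR (hT : IsSym3 T) (hsm : SmoothOn T ⊤) : DimLE k (FR T) 6 := by
  intro hd
  have : Infinite k := IsAlgClosed.instInfinite
  let P : Ideal (MvPolynomial (Fin (5 + 5)) k) := vanishingIdeal k (xcE k '' FR T)
  have hP : ∀ p, p ∈ P ↔ ∀ s ∈ FR T, eval (xcE k s) p = 0 := by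
    intro p
    rw [mem_vanishingIdeal_iff]
    constructor
    · intro h s hs
      have := h _ ⟨s, hs, rfl⟩
      rwa [aeval_eq_eval] at this
    · rintro h _ ⟨s, hs, rfl⟩
      rw [aeval_eq_eval]
      exact h s hs
  have hPp := isPrime_van (xcE k) (frames_irr hT hsm) P hP
  obtain ⟨y, hy⟩ := algInd_of_dimGE (xcE k) hd P hP
  obtain ⟨d, h, -, htr, hh, hsum⟩ := K714.DimMv.exists_nat_dim P
  have h7 : 6 + 1 ≤ d := by
    have h1 := hy.lift_cardinalMk_le_trdeg
    rw [htr] at h1
    simpa using h1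
  obtain ⟨Ω, _, _, _, ζ, hζ, δ, hδ⟩ := K925.GenDer.exists_generic (k := k) (N := 5 + 5) (d := 7) P (by
    rw [hh]
    have h2 : Nat.card (Fin (5 + 5)) = 5 + 5 := by simp
    have : h + 7 ≤ 5 + 5 := by omega
    exact_mod_cast this)
  have : CharZero Ω := charZero_of_injective_algebraMap (algebraMap k Ω).injective
  have hTΩ := bc_sym (Ω := Ω) hT
  have hsmΩ := bc_smooth (Ω := Ω) hsm
  obtain ⟨q, rfl⟩ := exists_xc ζ
  obtain ⟨q₀, hq₀⟩ := (frames_irr hT hsm).1
  have hq : q ∈ FR (bc Ω T) := by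
    refine ⟨?_, (aeval_eqs T q).1 fun i => (hζ _).2 ?_⟩
    · obtain ⟨g, hg, hg'⟩ := indep_gen hq₀.1
      refine hg' Ω q fun h0 => hg ?_
      exact (hP g).1 ((hζ g).1 h0) q₀ hq₀
    · rw [hP]
      intro s hs
      exact (eval_eqs T s).2 hs.2 i
  have e := hq.2
  obtain ⟨e1, e2, e3, e4⟩ := e
  have h8 := tan_le hTΩ hsmΩ (x := q.1) (p := q.2) hq (d := 7)
    (w := fun i => (fun j => δ i (q.1 j), fun j => δ i (q.2 j))) ?_ ?_
  · omega
  · have h9 := hδ.map' (xcE Ω).symm.toLinearMap (LinearEquiv.ker _)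
    have h10 : (fun i => ((fun j => δ i (q.1 j), fun j => δ i (q.2 j)) : (Fin 5 → Ω) × (Fin 5 → Ω))) =
        ⇑(xcE Ω).symm.toLinearMap ∘ fun i j => (δ i) (xc q j) := by
      funext i
      refine Prod.ext (funext fun j => ?_) (funext fun j => ?_)
      · change δ i (q.1 j) = δ i (xc q (Fin.castAdd 5 j))
        congr 1
        exact (Fin.append_left _ _ _).symm
      · change δ i (q.2 j) = δ i (xc q (Fin.natAdd 5 j))
        congr 1
        exact (Fin.append_right _ _ _).symm
    rw [h10]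
    exact h9
  · intro i
    have h3 : (3 : Ω) ≠ 0 := by norm_num
    have r1 : bc Ω T q.1 q.1 (fun j => δ i (q.1 j)) = 0 := by
      have h := der_bc (δ i) T q.1 q.1 q.1
      rw [e1, map_zero, hTΩ.rot (fun j => δ i (q.1 j)) q.1 q.1, hTΩ.s23 q.1 (fun j => δ i (q.1 j)) q.1] at h
      have : 3 * bc Ω T q.1 q.1 (fun j => δ i (q.1 j)) = 0 := by linear_combination -h
      exact (mul_eq_zero.1 this).resolve_left h3
    have r2 : 2 * bc Ω T q.1 q.2 (fun j => δ i (q.1 j)) + bc Ω T q.1 q.1 (fun j => δ i (q.2 j)) = 0 := by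
      have h := der_bc (δ i) T q.1 q.1 q.2
      rw [e2, map_zero, hTΩ.rot (fun j => δ i (q.1 j)) q.1 q.2, hTΩ.s23 q.1 (fun j => δ i (q.1 j)) q.2] at h
      linear_combination -h
    have r3 : bc Ω T q.2 q.2 (fun j => δ i (q.1 j)) + 2 * bc Ω T q.1 q.2 (fun j => δ i (q.2 j)) = 0 := by
      have h := der_bc (δ i) T q.1 q.2 q.2
      rw [e3, map_zero, hTΩ.rot (fun j => δ i (q.1 j)) q.2 q.2, hTΩ.s23 q.1 (fun j => δ i (q.2 j)) q.2] at h
      linear_combination -h
    have r4 : bc Ω T q.2 q.2 (fun j => δ i (q.2 j)) = 0 := by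
      have h := der_bc (δ i) T q.2 q.2 q.2
      rw [e4, map_zero, hTΩ.rot (fun j => δ i (q.2 j)) q.2 q.2, hTΩ.s23 q.2 (fun j => δ i (q.2 j)) q.2] at h
      have : 3 * bc Ω T q.2 q.2 (fun j => δ i (q.2 j)) = 0 := by linear_combination -h
      exact (mul_eq_zero.1 this).resolve_left h3
    funext l
    fin_cases l
    · simpa [Lt] using r1
    · simpa [Lt] using r2
    · simpa [Lt] using r3
    · simpa [Lt] using r4

end Tan

end K332.FrDim
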