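import Groth.Agent.Fano.K332.FrDim
import Groth.Agent.Fano.K305.DimA
import Groth.Agent.Fano.K424.X0

/-!
# Lines through general points of a smooth cubic threefold are general
-/

set_option autoImplicit false

universe u

namespace K332.GenPt

open Module K656.Trilin K714.Surf K714.Frames K714.Irr K470.Cur LefPen Groth.Agent.Lefpen.H703.ZOpen

variable {k : Type u} [Field k]
variable {T : (Fin 5 → k) →ₗ[k] (Fin 5 → k) →ₗ[k] (Fin 5 → k) →ₗ[k] k}

theorem FR_line {x p : Fin 5 → k} (h : (x, p) ∈ FR T) {c d : k} (hd : d ≠ 0) (hT : IsSym3 T) :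
    (x, c • x + d • p) ∈ FR T := by
  obtain ⟨h0, h1, h2, h3, h4⟩ := h
  simp only at h0 h1 h2 h3 h4
  refine ⟨?_, h1, ?_, ?_, ?_⟩
  · simp only
    rw [LinearIndependent.pair_iff] at h0 ⊢
    intro s t hst
    obtain ⟨h5, h6⟩ := h0 (s + t * c) (t * d) (by
      rw [← hst]
      simp only [smul_add, smul_smul, add_smul]
      abel)
    have ht : t = 0 := (mul_eq_zero.1 h6).resolve_right hd
    rw [ht, zero_mul, add_zero] at h5
    exact ⟨h5, ht⟩
  · simp only [map_add, map_smul, smul_eq_mul, h1, h2, mul_zero, add_zero]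
  · simp only [map_add, map_smul, LinearMap.add_apply, LinearMap.smul_apply, smul_eq_mul, h1, h2, h3,
      mul_zero, add_zero, hT.s23 x p x]
  · simp only
    rw [hT.cube_smul_add_smul, h1, h2, h3, h4]
    ring

theorem dimGE_total [Infinite k] (hT : IsSym3 T) {B : Set ((Fin 5 → k) × (Fin 5 → k))}
    (hinv : ∀ x p : Fin 5 → k, (x, p) ∈ FR T → (x, p) ∈ B → ∀ a b c d : k, a * d - b * c ≠ 0 →
      (a • x + b • p, c • x + d • p) ∈ B) {i j : Fin 5}
    (hd : DimGE k {x : Fin 5 → k | ∃ p, (x, p) ∈ FR T ∧ (x, p) ∈ B ∧ x i * p j - x j * p i ≠ 0} 4) :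
    DimGE k (FR T ∩ B) (4 + 2) := by
  obtain ⟨φ, hφ, H⟩ := hd
  have hap : ∀ {X : Type u} [AddCommGroup X] [Module k X] {f : X → (Fin 4 → k)} {g h : X → k},
      IsPolyMap k f → IsPolyFun k g → IsPolyFun k h →
      IsPolyMap k (fun v => (Fin.append (f v) ![g v, h v] : Fin (4 + 2) → k)) := by
    intro X _ _ f g h hf hg hh
    refine isPolyMap_pi.2 fun l => ?_
    refine Fin.addCases (fun l => ?_) (fun l => ?_) l
    · simp only [Fin.append_left]
      exact isPolyMap_pi.1 hf l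
    · simp only [Fin.append_right]
      refine Fin.cases ?_ (fun l => ?_) l
      · exact hg
      · refine Fin.cases ?_ (fun l => l.elim0) l
        exact hh
  have hpr : ∀ l : Fin 5, IsPolyFun k (fun q : (Fin 5 → k) × (Fin 5 → k) => q.2 l) := fun l =>
    isPolyFun_linear' ((LinearMap.proj (R := k) (φ := fun _ : Fin 5 => k) l).comp
      (LinearMap.snd k (Fin 5 → k) (Fin 5 → k)))
  refine ⟨fun q => Fin.append (φ q.1) ![q.2 i, q.2 j],
    hap (pm_comp hφ isPolyMap_fst) (hpr i) (hpr j), fun O hO hne => ?_⟩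
  obtain ⟨y, hy⟩ := hne
  obtain ⟨F, hF, hFy, hFO⟩ := hO y hy
  -- first choose `x`
  obtain ⟨x, ⟨p, hp, hpB, hD⟩, hx⟩ := H {a | F (Fin.append a ![y (Fin.natAdd 4 0), y (Fin.natAdd 4 1)]) ≠ 0}
    (isZOpen_basic (pf_comp hF (hap isPolyMap_id (isPolyFun_const _) (isPolyFun_const _))))
    ⟨fun l => y (Fin.castAdd 2 l), by
      have : (Fin.append (fun l => y (Fin.castAdd 2 l)) ![y (Fin.natAdd 4 0), y (Fin.natAdd 4 1)] :
          Fin (4 + 2) → k) = y := by
        funext l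
        refine Fin.addCases (fun l => ?_) (fun l => ?_) l
        · rw [Fin.append_left]
        · rw [Fin.append_right]
          refine Fin.cases ?_ (fun l => ?_) l
          · rfl
          · refine Fin.cases ?_ (fun l => l.elim0) l
            rfl
      simp only [Set.mem_ofPred_eq]
      rw [this]
      exact hFy⟩
  simp only [Set.mem_ofPred_eq] at hx
  -- then choose the point of the line
  have hl : ∀ l : Fin 5, IsPolyFun k (fun c : k × k => c.1 * x l + c.2 * p l) := fun l =>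
    pf_add (pf_mul (isPolyFun_linear' (LinearMap.fst k k k)) (isPolyFun_const _))
      (pf_mul (isPolyFun_linear' (LinearMap.snd k k k)) (isPolyFun_const _))
  obtain ⟨c, hc⟩ := exists_mul_ne_zero
    (pf_comp hF (hap (isPolyMap_const (φ x)) (hl i) (hl j)))
    (isPolyFun_linear' (LinearMap.snd k k k))
    ⟨((y (Fin.natAdd 4 0) * p j - y (Fin.natAdd 4 1) * p i) / (x i * p j - x j * p i),
      (x i * y (Fin.natAdd 4 1) - x j * y (Fin.natAdd 4 0)) / (x i * p j - x j * p i)), by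
      have e1 : (y (Fin.natAdd 4 0) * p j - y (Fin.natAdd 4 1) * p i) / (x i * p j - x j * p i) * x i +
          (x i * y (Fin.natAdd 4 1) - x j * y (Fin.natAdd 4 0)) / (x i * p j - x j * p i) * p i =
          y (Fin.natAdd 4 0) := by
        rw [div_mul_eq_mul_div, div_mul_eq_mul_div, ← add_div, div_eq_iff hD]
        ring
      have e2 : (y (Fin.natAdd 4 0) * p j - y (Fin.natAdd 4 1) * p i) / (x i * p j - x j * p i) * x j +
          (x i * y (Fin.natAdd 4 1) - x j * y (Fin.natAdd 4 0)) / (x i * p j - x j * p i) * p j =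
          y (Fin.natAdd 4 1) := by
        rw [div_mul_eq_mul_div, div_mul_eq_mul_div, ← add_div, div_eq_iff hD]
        ring
      simp only
      rw [e1, e2]
      exact hx⟩
    ⟨(0, 1), by simp⟩
  have h1 := left_ne_zero_of_mul hc
  have h2 : c.2 ≠ 0 := right_ne_zero_of_mul hc
  refine ⟨(x, c.1 • x + c.2 • p), ⟨FR_line hp h2 hT, ?_⟩, hFO _ ?_⟩
  · have := hinv x p hp hpB 1 0 c.1 c.2 (by simpa using h2)
    simpa using this
  · simpa using h1

variable [IsAlgClosed k] [CharZero k]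

/-- lines through general points are general -/
theorem exists_general_point (hT : IsSym3 T) (hsm : SmoothOn T ⊤) {B : Set ((Fin 5 → k) × (Fin 5 → k))}
    (hB : IsZOpen k Bᶜ)
    (hinv : ∀ x p : Fin 5 → k, (x, p) ∈ FR T → (x, p) ∈ B → ∀ a b c d : k, a * d - b * c ≠ 0 →
      (a • x + b • p, c • x + d • p) ∈ B)
    (hne : ¬ FR T ⊆ B) :
    ∃ O : Set (Fin 5 → k), IsZOpen k O ∧ (X0 T ∩ O).Nonempty ∧ ∀ x ∈ O, T x x x = 0 → x ≠ 0 ∧
      ∀ p, (x, p) ∈ FR T → (x, p) ∉ B := by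
  have : Infinite k := IsAlgClosed.instInfinite
  -- the bad frames have dimension at most five
  have hbad : ¬ DimGE k (FR T ∩ B) (4 + 2) := by
    intro hd
    obtain ⟨q, hq, hqB⟩ := Set.not_subset.1 hne
    obtain ⟨g, hg, hgq, hgB⟩ := hB q hqB
    refine K332.FrDim.dimLE_FR hT hsm ?_
    refine K305.DimA.dimGE_succ (frames_irr hT hsm) Set.inter_subset_left hg (fun s hs => ?_) hq hgq hd
    by_contra hne
    exact hgB s hne hs.2
  -- their first vectors have dimension at most three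
  let S : Set (Fin 5 → k) := {x | ∃ p, (x, p) ∈ FR T ∧ (x, p) ∈ B}
  have hS : DimLE k S 3 := by
    have h1 : DimLE k (⋃ ij ∈ (Set.univ : Set (Fin 5 × Fin 5)),
        {x : Fin 5 → k | ∃ p, (x, p) ∈ FR T ∧ (x, p) ∈ B ∧ x ij.1 * p ij.2 - x ij.2 * p ij.1 ≠ 0}) 3 :=
      K305.DimA.dimLE_biUnion Set.finite_univ fun ij _ h => hbad (dimGE_total hT hinv h)
    refine K305.DimA.DimLE.mono ?_ h1
    rintro x ⟨p, hp, hpB⟩
    obtain ⟨ij, hij⟩ : ∃ ij : Fin 5 × Fin 5, x ij.1 * p ij.2 - x ij.2 * p ij.1 ≠ 0 := by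
      by_contra hcon
      push Not at hcon
      have hli := hp.1
      simp only at hli
      have hx0 : x ≠ 0 := hli.ne_zero 0
      obtain ⟨i, hi⟩ := Function.ne_iff.1 hx0
      obtain ⟨-, h3⟩ := LinearIndependent.pair_iff.1 hli (p i) (-x i) (by
        funext j
        have := hcon (i, j)
        simp only [Pi.add_apply, Pi.smul_apply, smul_eq_mul, Pi.zero_apply]
        linear_combination -this)
      exact hi (neg_eq_zero.1 h3)
    simp only [Set.mem_iUnion]
    exact ⟨ij, trivial, p, hp, hpB, hij⟩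
  -- so they are not dense
  have hcl : ¬ X0 T ⊆ Cl k S := fun h =>
    hS (K305.DimA.dimGE_cl.1 (K305.DimA.DimGE.mono h (K424.X0.dimGE_X0 hT hsm)))
  obtain ⟨x₁, hx₁, hx₁S⟩ := Set.not_subset.1 hcl
  simp only [Cl, Set.mem_ofPred_eq, not_forall] at hx₁S
  obtain ⟨O₁, hO₁, hx₁O, hO₁S⟩ := hx₁S
  have hO₂ : IsZOpen k {x : Fin 5 → k | x ≠ 0} := Groth.Agent.Lefpen.H703.Elim.isZOpen_ne_zero
  obtain ⟨x₂, hx₂, hx₂0⟩ := K424.X0.exists_ne_zero_X0 hT
  refine ⟨O₁ ∩ {x | x ≠ 0}, zo_inter hO₁ hO₂,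
    (K424.X0.irr_X0 hT hsm).2 _ _ hO₁ hO₂ ⟨x₁, hx₁, hx₁O⟩ ⟨x₂, hx₂0, hx₂⟩, ?_⟩
  rintro x ⟨hxO, hx0⟩ -
  exact ⟨hx0, fun p hp hpB => hO₁S ⟨x, ⟨p, hp, hpB⟩, hxO⟩⟩

end K332.GenPt
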