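import Groth.Agent.Fano.K544.QuintDet
import Groth.Agent.Fano.K255.PfDef

/-!
# The five `4×4` Pfaffians of a `5×5` skew matrix of linear forms over a ring

* `pfR`: the five Pfaffians; `mapForm_pfR`; `cE_eq`.
* `smooth_of_rank`: the family is smooth of relative dimension one if the Jacobian matrix has rank at least three at all
  field valued points.
-/

set_option autoImplicit false
universe u

open CategoryTheory AlgebraicGeometry Limits TopologicalSpace Opposite MvPolynomial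

namespace K332.PfDet

open Groth.Agent.Lefpen.H872.RelCI Groth.Agent.Lefpen.H872.RelBase Groth.Agent.Sga5
open Groth.Agent.Fano.K276.QuartUniv
open Groth.Agent.Fano.K714 Groth.Agent.Fano.K714.Rat Groth.Agent.Fano.K714.Quart Groth.Agent.Fano.K715.Quint
open K544 K544.QuintDet

section Forms

variable {A : Type u} [CommRing A] {B : Type u} [CommRing B] (φ : A →+* B)

/-- The Pfaffian of the block `a, b, c, d`. -/
noncomputable def rp4 (m : Fin 6 → Fin 6 → RForm 4 A 1) (a b c d : Fin 6) : RForm 4 A 2 :=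
  rmul (m a b) (m c d) rfl - rmul (m a c) (m b d) rfl + rmul (m a d) (m b c) rfl

/-- The five Pfaffians (index = omitted row). -/
noncomputable def pfR (m : Fin 6 → Fin 6 → RForm 4 A 1) : Fin 5 → RForm 4 A 2
  | 0 => rp4 m 1 2 3 4
  | 1 => rp4 m 0 2 3 4
  | 2 => rp4 m 0 1 3 4
  | 3 => rp4 m 0 1 2 4
  | 4 => rp4 m 0 1 2 3

theorem mapForm_rp4 (m : Fin 6 → Fin 6 → RForm 4 A 1) (a b c d : Fin 6) :
    mapForm φ (rp4 m a b c d) = rp4 (fun i j => mapForm φ (m i j)) a b c d := by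
  rw [rp4, rp4, mapForm_add, mapForm_sub, mapForm_rmul, mapForm_rmul, mapForm_rmul]

theorem mapForm_pfR (m : Fin 6 → Fin 6 → RForm 4 A 1) (j : Fin 5) :
    mapForm φ (pfR m j) = pfR (fun i j => mapForm φ (m i j)) j := by
  match j with
  | 0 => exact mapForm_rp4 φ m _ _ _ _
  | 1 => exact mapForm_rp4 φ m _ _ _ _
  | 2 => exact mapForm_rp4 φ m _ _ _ _
  | 3 => exact mapForm_rp4 φ m _ _ _ _
  | 4 => exact mapForm_rp4 φ m _ _ _ _

variable (m : Fin 6 → Fin 6 → RForm 4 A 1)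

theorem p0 : (pfR m 0).1 = (m 1 2).1 * (m 3 4).1 - (m 1 3).1 * (m 2 4).1 + (m 1 4).1 * (m 2 3).1 := rfl

theorem p1 : (pfR m 1).1 = (m 0 2).1 * (m 3 4).1 - (m 0 3).1 * (m 2 4).1 + (m 0 4).1 * (m 2 3).1 := rfl

theorem p2 : (pfR m 2).1 = (m 0 1).1 * (m 3 4).1 - (m 0 3).1 * (m 1 4).1 + (m 0 4).1 * (m 1 3).1 := rfl

theorem p3 : (pfR m 3).1 = (m 0 1).1 * (m 2 4).1 - (m 0 2).1 * (m 1 4).1 + (m 0 4).1 * (m 1 2).1 := rfl

theorem p4 : (pfR m 4).1 = (m 0 1).1 * (m 2 3).1 - (m 0 2).1 * (m 1 3).1 + (m 0 3).1 * (m 1 2).1 := rfl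

end Forms

section Rank

variable {R : Type u} [CommRing R]

theorem step2 {K : Type u} [Field K] [Algebra R K] {a : Fin 5 → ℕ} (G : ∀ j : Fin 5, RForm 4 R (a j))
    (x : Fin (4 + 1) → K) (i : Fin (4 + 1)) (hG : ∀ j, aeval x (G j).1 = 0)
    (hr : 3 ≤ Module.finrank K (Submodule.span K
      (Set.range fun j : Fin 5 => fun l : Fin 4 => aeval x (pderiv (i.succAbove l) (G j).1))))
    (e' : Fin 3 → Fin 5) (d d' : Fin 5) (hcov : ∀ j, j = d ∨ j = d' ∨ ∃ m, j = e' m)
    (S : MvPolynomial (Fin (4 + 1)) R) (P P' : Fin 3 → MvPolynomial (Fin (4 + 1)) R)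
    (hrel : S * (G d).1 = ∑ m, P m * (G (e' m)).1) (hrel' : S * (G d').1 = ∑ m, P' m * (G (e' m)).1)
    (hS : aeval x S ≠ 0) :
    ∃ (S : MvPolynomial (Fin (4 + 1)) R) (e' : Fin 3 → Fin 5), aeval x S ≠ 0 ∧
        (∀ j, S * (G j).1 ∈ Ideal.span (Set.range fun m => (G (e' m)).1)) ∧
        LinearIndependent K
          (fun m : Fin 3 => fun l : Fin 4 => aeval x (pderiv (i.succAbove l) (G (e' m)).1)) := by
  refine ⟨S, e', hS, fun j => ?_, ?_⟩
  · rcases hcov j with rfl | rfl | ⟨m, rfl⟩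
    · rw [hrel]
      exact Ideal.sum_mem _ fun m _ => Ideal.mul_mem_left _ _ (Ideal.subset_span ⟨m, rfl⟩)
    · rw [hrel']
      exact Ideal.sum_mem _ fun m _ => Ideal.mul_mem_left _ _ (Ideal.subset_span ⟨m, rfl⟩)
    · exact Ideal.mul_mem_left _ _ (Ideal.subset_span ⟨m, rfl⟩)
  · let w : Fin 5 → (Fin 4 → K) := fun j l => aeval x (pderiv (i.succAbove l) (G j).1)
    have hmem : ∀ (d : Fin 5) (P : Fin 3 → MvPolynomial (Fin (4 + 1)) R),
        S * (G d).1 = ∑ m, P m * (G (e' m)).1 → w d ∈ Submodule.span K (Set.range fun m => w (e' m)) := by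
      intro d P hrel
      have hw : aeval x S • w d = ∑ m, aeval x (P m) • w (e' m) := by
        funext l
        have h1 := congrArg (fun p => aeval x (pderiv (i.succAbove l) p)) hrel
        simp only [Derivation.leibniz, map_add, map_sum, smul_eq_mul, map_mul, hG, zero_mul, add_zero] at h1
        simpa [w, Finset.sum_apply] using h1
      have h1 : w d = (aeval x S)⁻¹ • ∑ m, aeval x (P m) • w (e' m) := by
        rw [← hw, smul_smul, inv_mul_cancel₀ hS, one_smul]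
      rw [h1]
      exact Submodule.smul_mem _ _ (Submodule.sum_mem _ fun m _ =>
        Submodule.smul_mem _ _ (Submodule.subset_span ⟨m, rfl⟩))
    have hle : Submodule.span K (Set.range w) ≤ Submodule.span K (Set.range fun m => w (e' m)) := by
      rw [Submodule.span_le]
      rintro _ ⟨j, rfl⟩
      rcases hcov j with rfl | rfl | ⟨m, rfl⟩
      · exact hmem _ P hrel
      · exact hmem _ P' hrel'
      · exact Submodule.subset_span ⟨m, rfl⟩
    change LinearIndependent K (fun m => w (e' m))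
    rw [linearIndependent_iff_card_le_finrank_span, Fintype.card_fin, Set.finrank]
    exact hr.trans (Submodule.finrank_mono hle)

theorem finrank_ge {K : Type u} [Field K] (w : Fin 5 → (Fin 4 → K)) (e' : Fin 3 → Fin 5)
    (h : LinearIndependent K (fun m => w (e' m))) : 3 ≤ Module.finrank K (Submodule.span K (Set.range w)) := by
  have h1 := finrank_span_eq_card h
  rw [Fintype.card_fin] at h1
  rw [← h1]
  refine Submodule.finrank_mono (Submodule.span_mono ?_)
  rintro _ ⟨m, rfl⟩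
  exact ⟨e' m, rfl⟩

variable (m : Fin 6 → Fin 6 → RForm 4 R 1)

theorem rp4_zero {K : Type u} [Field K] [Algebra R K] (x : Fin (4 + 1) → K) (i : Fin (4 + 1)) (l : Fin 4)
    (a b c d : Fin 6) (h1 : aeval x (m a b).1 = 0) (h2 : aeval x (m c d).1 = 0) (h3 : aeval x (m a c).1 = 0)
    (h4 : aeval x (m b d).1 = 0) (h5 : aeval x (m a d).1 = 0) (h6 : aeval x (m b c).1 = 0) :
    aeval x (pderiv (i.succAbove l) (rp4 m a b c d).1) = 0 := by
  change aeval x (pderiv (i.succAbove l) ((m a b).1 * (m c d).1 - (m a c).1 * (m b d).1 +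
    (m a d).1 * (m b c).1)) = 0
  simp only [map_add, map_sub, Derivation.leibniz, smul_eq_mul, map_mul, h1, h2, h3, h4, h5, h6, zero_mul,
    add_zero, sub_zero]

theorem exists_entry {K : Type u} [Field K] [Algebra R K] (x : Fin (4 + 1) → K) (i : Fin (4 + 1))
    (hr : 3 ≤ Module.finrank K (Submodule.span K
      (Set.range fun j : Fin 5 => fun l : Fin 4 => aeval x (pderiv (i.succAbove l) (pfR m j).1)))) :
    aeval x (m 0 1).1 ≠ 0 ∨ aeval x (m 0 2).1 ≠ 0 ∨ aeval x (m 0 3).1 ≠ 0 ∨ aeval x (m 0 4).1 ≠ 0 ∨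
      aeval x (m 1 2).1 ≠ 0 ∨ aeval x (m 1 3).1 ≠ 0 ∨ aeval x (m 1 4).1 ≠ 0 ∨ aeval x (m 2 3).1 ≠ 0 ∨
      aeval x (m 2 4).1 ≠ 0 ∨ aeval x (m 3 4).1 ≠ 0 := by
  by_contra hcon
  push Not at hcon
  obtain ⟨h01, h02, h03, h04, h12, h13, h14, h23, h24, h34⟩ := hcon
  have hz : ∀ j : Fin 5, (fun l : Fin 4 => aeval x (pderiv (i.succAbove l) (pfR m j).1)) = 0 := by
    intro j
    funext l
    match j with
    | 0 => exact rp4_zero m x i l 1 2 3 4 h12 h34 h13 h24 h14 h23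
    | 1 => exact rp4_zero m x i l 0 2 3 4 h02 h34 h03 h24 h04 h23
    | 2 => exact rp4_zero m x i l 0 1 3 4 h01 h34 h03 h14 h04 h13
    | 3 => exact rp4_zero m x i l 0 1 2 4 h01 h24 h02 h14 h04 h12
    | 4 => exact rp4_zero m x i l 0 1 2 3 h01 h23 h02 h13 h03 h12
  have h0 : Submodule.span K (Set.range fun j : Fin 5 => fun l : Fin 4 =>
      aeval x (pderiv (i.succAbove l) (pfR m j).1)) = ⊥ := by
    rw [Submodule.span_eq_bot]
    rintro _ ⟨j, rfl⟩
    exact hz j
  rw [h0, finrank_bot] at hr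
  omega

/-- The Pfaffian family is smooth of relative dimension one if the Jacobian matrix has rank at least three. -/
theorem smooth_of_rank (h : ∀ (K : Type u) [Field K] [Algebra R K] (x : Fin (4 + 1) → K) (i : Fin (4 + 1)), x i = 1 →
      (∀ j, aeval x (pfR m j).1 = 0) → ∃ e' : Fin 3 → Fin 5, LinearIndependent K
          (fun n : Fin 3 => fun l : Fin 4 => aeval x (pderiv (i.succAbove l) (pfR m (e' n)).1))) :
    SmoothOfRelativeDimension 1 (yStr (pfR m)) := by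
  refine LocCI.smooth_of_local (c := 3) (pfR m) (by norm_num) fun K _ _ x i hi hG => ?_
  obtain ⟨e₀, he₀⟩ := h K x i hi hG
  have hr := finrank_ge (fun j : Fin 5 => fun l : Fin 4 => aeval x (pderiv (i.succAbove l) (pfR m j).1)) e₀ he₀
  rcases exists_entry m x i hr with hS | hS | hS | hS | hS | hS | hS | hS | hS | hS
  · refine step2 (pfR m) x i hG hr ![2, 3, 4] 1 0 (by decide) (m 0 1).1
      ![(m 0 2).1, - (m 0 3).1, (m 0 4).1] ![(m 1 2).1, - (m 1 3).1, (m 1 4).1] ?_ ?_ hS <;>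
    · rw [Fin.sum_univ_three]
      simp only [Matrix.cons_val_zero, Matrix.cons_val_one, Matrix.cons_val, p0, p1, p2, p3, p4]
      ring
  · refine step2 (pfR m) x i hG hr ![1, 3, 4] 2 0 (by decide) (m 0 2).1
      ![(m 0 1).1, (m 0 3).1, - (m 0 4).1] ![(m 1 2).1, - (m 2 3).1, (m 2 4).1] ?_ ?_ hS <;>
    · rw [Fin.sum_univ_three]
      simp only [Matrix.cons_val_zero, Matrix.cons_val_one, Matrix.cons_val, p0, p1, p2, p3, p4]
      ring
  · refine step2 (pfR m) x i hG hr ![1, 2, 4] 3 0 (by decide) (m 0 3).1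
      ![- (m 0 1).1, (m 0 2).1, (m 0 4).1] ![(m 1 3).1, - (m 2 3).1, (m 3 4).1] ?_ ?_ hS <;>
    · rw [Fin.sum_univ_three]
      simp only [Matrix.cons_val_zero, Matrix.cons_val_one, Matrix.cons_val, p0, p1, p2, p3, p4]
      ring
  · refine step2 (pfR m) x i hG hr ![1, 2, 3] 4 0 (by decide) (m 0 4).1
      ![(m 0 1).1, - (m 0 2).1, (m 0 3).1] ![(m 1 4).1, - (m 2 4).1, (m 3 4).1] ?_ ?_ hS <;>
    · rw [Fin.sum_univ_three]
      simp only [Matrix.cons_val_zero, Matrix.cons_val_one, Matrix.cons_val, p0, p1, p2, p3, p4]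
      ring
  · refine step2 (pfR m) x i hG hr ![0, 3, 4] 2 1 (by decide) (m 1 2).1
      ![(m 0 1).1, (m 1 3).1, - (m 1 4).1] ![(m 0 2).1, (m 2 3).1, - (m 2 4).1] ?_ ?_ hS <;>
    · rw [Fin.sum_univ_three]
      simp only [Matrix.cons_val_zero, Matrix.cons_val_one, Matrix.cons_val, p0, p1, p2, p3, p4]
      ring
  · refine step2 (pfR m) x i hG hr ![0, 2, 4] 3 1 (by decide) (m 1 3).1
      ![- (m 0 1).1, (m 1 2).1, (m 1 4).1] ![(m 0 3).1, (m 2 3).1, - (m 3 4).1] ?_ ?_ hS <;>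
    · rw [Fin.sum_univ_three]
      simp only [Matrix.cons_val_zero, Matrix.cons_val_one, Matrix.cons_val, p0, p1, p2, p3, p4]
      ring
  · refine step2 (pfR m) x i hG hr ![0, 2, 3] 4 1 (by decide) (m 1 4).1
      ![(m 0 1).1, - (m 1 2).1, (m 1 3).1] ![(m 0 4).1, (m 2 4).1, - (m 3 4).1] ?_ ?_ hS <;>
    · rw [Fin.sum_univ_three]
      simp only [Matrix.cons_val_zero, Matrix.cons_val_one, Matrix.cons_val, p0, p1, p2, p3, p4]
      ring
  · refine step2 (pfR m) x i hG hr ![0, 1, 4] 3 2 (by decide) (m 2 3).1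
      ![- (m 0 2).1, (m 1 2).1, (m 2 4).1] ![- (m 0 3).1, (m 1 3).1, (m 3 4).1] ?_ ?_ hS <;>
    · rw [Fin.sum_univ_three]
      simp only [Matrix.cons_val_zero, Matrix.cons_val_one, Matrix.cons_val, p0, p1, p2, p3, p4]
      ring
  · refine step2 (pfR m) x i hG hr ![0, 1, 3] 4 2 (by decide) (m 2 4).1
      ![(m 0 2).1, - (m 1 2).1, (m 2 3).1] ![- (m 0 4).1, (m 1 4).1, (m 3 4).1] ?_ ?_ hS <;>
    · rw [Fin.sum_univ_three]
      simp only [Matrix.cons_val_zero, Matrix.cons_val_one, Matrix.cons_val, p0, p1, p2, p3, p4]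
      ring
  · refine step2 (pfR m) x i hG hr ![0, 1, 2] 4 3 (by decide) (m 3 4).1
      ![(m 0 3).1, - (m 1 3).1, (m 2 3).1] ![(m 0 4).1, - (m 1 4).1, (m 2 4).1] ?_ ?_ hS <;>
    · rw [Fin.sum_univ_three]
      simp only [Matrix.cons_val_zero, Matrix.cons_val_one, Matrix.cons_val, p0, p1, p2, p3, p4]
      ring
end Rank

section Field

variable {k : Type u} [Field k]

/-- The matrix of linear forms. -/
noncomputable abbrev mE (M : K255.Pf.DataE k) : Fin 6 → Fin 6 → RForm 4 k 1 := fun i j => rlin (M i j)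

theorem pfR_eq (M : K255.Pf.DataE k) (j : Fin 5) : pfR (mE M) j = K255.Pf.qE M j := by
  have h : ∀ a b c d : Fin 6, rp4 (mE M) a b c d = K255.Pf.qf4 M a b c d := by
    intro a b c d
    rw [rp4, K255.Pf.qf4, mE]
    simp only [rlin_eq]
    rfl
  match j with
  | 0 => exact h _ _ _ _
  | 1 => exact h _ _ _ _
  | 2 => exact h _ _ _ _
  | 3 => exact h _ _ _ _
  | 4 => exact h _ _ _ _

theorem cE_eq (M : K255.Pf.DataE k) : K255.Pf.cE M = rciIdeal (pfR (mE M)) := by
  rw [rciIdeal, K255.Pf.cE]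
  refine iSup_congr fun j => ?_
  rw [pfR_eq]
  rfl

end Field

end K332.PfDet
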